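import Groth.Agent.Div89.Ref1.Frame
import Groth.Agent.EGA73.Invertible

/-! The reflexive hull in codimension one; rank one reflexive modules. -/

set_option autoImplicit false
set_option linter.style.haveILetI false
set_option backward.isDefEq.respectTransparency.types false

noncomputable section

universe u

open CategoryTheory AlgebraicGeometry TopologicalSpace IsLocalRing
open Groth.Agent.QC70 Groth.Agent.Props58.LocFree

namespace Groth.Agent.Div89.Ref1

lemma surjective_eval_of_pid (A M : Type u) [CommRing A] [IsDomain A] [IsPrincipalIdealRing A]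
    [AddCommGroup M] [Module A M] [Module.Finite A M] :
    Function.Surjective (Module.Dual.eval A M) := by
  let q := (Submodule.torsion A M).mkQ
  haveI : Module.Free A (M ⧸ Submodule.torsion A M) := Module.free_of_finite_type_torsion_free'
  intro Φ
  obtain ⟨z, hz⟩ := (Module.bijective_dual_eval A (M ⧸ Submodule.torsion A M)).2 (Φ ∘ₗ q.dualMap)
  obtain ⟨m, rfl⟩ := Submodule.mkQ_surjective _ z
  refine ⟨m, LinearMap.ext fun f => ?_⟩
  have hker : Submodule.torsion A M ≤ LinearMap.ker f := fun t ht => by
    obtain ⟨⟨c, hc⟩, hct⟩ := (Submodule.mem_torsion_iff t).1 ht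
    have hct' : c • t = 0 := hct
    rw [LinearMap.mem_ker]
    refine (mul_eq_zero.1 ?_).resolve_left (nonZeroDivisors.ne_zero hc)
    rw [← smul_eq_mul, ← map_smul, hct', map_zero]
  have h := LinearMap.congr_fun hz ((Submodule.torsion A M).liftQ f hker)
  rw [Module.Dual.eval_apply, LinearMap.comp_apply] at h
  rw [Module.Dual.eval_apply]
  refine Eq.trans ?_ (h.trans (congrArg Φ (LinearMap.ext fun y => rfl)))
  rfl

variable {X : Scheme.{u}} [IsLocallyNoetherian X]

lemma exists_stalk_bidual_eq (F : X.Modules) (hF : Coh.IsCoh F) (x : X) :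
    ∃ Φ : Module.Dual (X.presheaf.stalk x) (Module.Dual (X.presheaf.stalk x) (F.presheaf.stalk x)) →
        (RefHull.ddual F).presheaf.stalk x,
      Function.Bijective Φ ∧ ∀ v, RefHull.stalkMapₗ (RefHull.bidualMap F) x v =
        Φ (Module.Dual.eval (X.presheaf.stalk x) (F.presheaf.stalk x) v) := by
  haveI : CohB1.IsFP F := isFP_of_isCoh hF
  haveI : CohB1.IsFP (RefHull.dual F) := isFP_of_isCoh (isCoh_dual F hF)
  let A := X.presheaf.stalk x
  let M := F.presheaf.stalk x
  let O := (Coh.structureModule X).presheaf.stalk x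
  let u : A ≃ₗ[A] O := unitStalkEquiv x
  let ε : (RefHull.dual F).presheaf.stalk x ≃ₗ[A] (M →ₗ[A] A) :=
    (LinearEquiv.ofBijective (RefHull.evalStalk F (Coh.structureModule X) x)
      (evalStalk_bijective F _ x)).trans (LinearEquiv.congrRight u.symm)
  let E : Module.Dual A (Module.Dual A M) ≃ₗ[A]
      RefHull.StalkHom (RefHull.dual F) (Coh.structureModule X) x :=
    LinearEquiv.arrowCongr ε.symm u
  let H := LinearEquiv.ofBijective (RefHull.evalStalk (RefHull.dual F) (Coh.structureModule X) x)
    (evalStalk_bijective _ _ x)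
  refine ⟨fun z => H.symm (E z), H.symm.bijective.comp E.bijective, fun v => H.injective ?_⟩
  show RefHull.evalStalk _ _ x _ = H (H.symm (E _))
  rw [LinearEquiv.apply_symm_apply]
  have h2 : RefHull.bidualAt F x v = E (Module.Dual.eval A M v) := LinearMap.ext fun θ => by
    rw [RefHull.bidualAt_apply]
    show RefHull.evalStalk F _ x θ v = u (ε θ v)
    show _ = u (u.symm _)
    rw [LinearEquiv.apply_symm_apply]
    rfl
  rw [← h2]
  obtain ⟨W, hxW, m, rfl⟩ := germM_exist v
  rw [RefHull.stalkMapₗ_germ, evalStalk_germ']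
  rfl

lemma bijective_stalk_bidual (F : X.Modules) (hF : Coh.IsCoh F) (x : X) (h : RefHull.IsReflexiveAt F x) :
    Function.Bijective (RefHull.stalkMapₗ (RefHull.bidualMap F) x) := by
  obtain ⟨Φ, hΦ, he⟩ := exists_stalk_bidual_eq F hF x
  rw [funext he]
  exact hΦ.comp h.bijective_dual_eval'

lemma isReflexiveAt_of_framed {F : X.Modules} {x : X} (h : Framed F x) : RefHull.IsReflexiveAt F x := by
  haveI := free_of_framed h
  obtain ⟨W, hx, e, he⟩ := h
  haveI : Module.Finite (X.presheaf.stalk x) (F.presheaf.stalk x) :=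
    Module.Finite.of_surjective (LinearMap.toSpanSingleton (X.presheaf.stalk x) _ (germM F W x hx e))
      (isGen_germM he hx).2
  exact show Module.IsReflexive _ _ from inferInstance

lemma isReflexiveAt_ddual [IsIntegral X] (F : X.Modules) (hF : Coh.IsCoh F) (x : X) :
    RefHull.IsReflexiveAt (RefHull.ddual F) x :=
  isReflexiveAt_homSh _ _ (isCoh_dual F hF) isCoh_structureModule x
    (isReflexiveAt_of_framed (framed_of_isInvertible EGA73.isInvertible_structureModule x))

lemma isReflexiveAt_dual [IsIntegral X] (F : X.Modules) (hF : Coh.IsCoh F) (x : X) :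
    RefHull.IsReflexiveAt (RefHull.dual F) x :=
  isReflexiveAt_homSh _ _ hF isCoh_structureModule x
    (isReflexiveAt_of_framed (framed_of_isInvertible EGA73.isInvertible_structureModule x))

/-- A coherent module with a free generator of a stalk has a frame nearby. -/
lemma framed_of_isGen {G : X.Modules} (hG : Coh.IsCoh G) {x : X} (ε : G.presheaf.stalk x)
    (hε : Function.Bijective fun c : X.presheaf.stalk x => c • ε) : Framed G x := by
  let e0 : X.presheaf.stalk x ≃ₗ[X.presheaf.stalk x] G.presheaf.stalk x :=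
    LinearEquiv.ofBijective (LinearMap.toSpanSingleton (X.presheaf.stalk x) _ ε) hε
  haveI : Module.Free (X.presheaf.stalk x) (G.presheaf.stalk x) := Module.Free.of_equiv e0
  obtain ⟨U, n, hxU, ⟨i⟩⟩ := exists_nhd_free_of_free_stalk hG (x := x) inferInstance
  obtain ⟨s, hs⟩ := exists_stalkBasis_of_iso i
  obtain rfl : n = 1 := by
    have e1 := (hs.stalkEquiv x hxU).trans e0.symm
    simpa using e1.finrank_eq
  refine ⟨U, hxU, s 0, fun V hV => ?_⟩
  have h1 := (hs.bijective hV).comp (Equiv.funUnique (Fin 1) Γ(X, V)).symm.bijective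
  convert h1 using 1
  funext a
  simp [QC70.res, Var76.LineBundle.res]

/-- Transfer of frames along morphisms. -/
lemma framed_of_bijective {F G : X.Modules} (hG : Coh.IsCoh G) (ψ : F ⟶ G) {x : X}
    (hF : Framed F x) (hb : Function.Bijective (RefHull.stalkMapₗ ψ x)) : Framed G x := by
  obtain ⟨W, hx, e, he⟩ := hF
  refine framed_of_isGen hG (RefHull.stalkMapₗ ψ x (germM F W x hx e)) ?_
  have h : (fun c : X.presheaf.stalk x => c • RefHull.stalkMapₗ ψ x (germM F W x hx e)) =
      RefHull.stalkMapₗ ψ x ∘ fun c => c • germM F W x hx e := funext fun c => (map_smul _ _ _).symm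
  rw [h]
  exact hb.comp (isGen_germM he hx)

variable [IsIntegral X]

lemma framed_generic_of_genInvertible {F : X.Modules} (hFc : Coh.IsCoh F) (hF : RefHull.GenInvertible F) :
    Framed F (genericPoint X) := by
  obtain ⟨U, hd, hinv⟩ := hF
  obtain ⟨y, hy⟩ := hd.nonempty
  have hη : genericPoint X ∈ U := genericPoint_mem hy
  let z : (U : Scheme.{u}) := ⟨genericPoint X, hη⟩
  obtain ⟨W, hW, e, he⟩ := Mero90.exists_frame' hinv z
  let r := FBase64.AssSheaf.restrictStalkEquiv U.ι F z
  let σ := (asIso (U.ι.stalkMap z)).commRingCatIsoToRingEquiv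
  refine framed_of_isGen hFc (x := U.ι z) (r.symm (germM (F.restrict U.ι) W z hW e)) ?_
  have h : (fun c : X.presheaf.stalk (U.ι z) => c • r.symm (germM (F.restrict U.ι) W z hW e)) =
      r.symm ∘ (fun c => c • germM (F.restrict U.ι) W z hW e) ∘ σ := funext fun c => by
    apply r.injective
    simp only [Function.comp, AddEquiv.apply_symm_apply]
    rw [show r (c • r.symm _) = _ from FBase64.AssSheaf.restrictStalkEquiv_smul U.ι F z c _]
    simp only [AddEquiv.apply_symm_apply, r]
    rfl
  rw [h]
  exact r.symm.bijective.comp ((isGen_germM he hW).comp σ.bijective)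

/-- Rank one reflexive modules have frames at the generic and codimension one points. -/
lemma framed_of_isRef1 (hX : Pi1.IsNormalScheme X) {F : X.Modules} (hF : RefHull.IsRef1 F) {x : X}
    (hx : x = genericPoint X ∨ Order.coheight x = 1) : Framed F x := by
  have hη := framed_generic_of_genInvertible hF.1 hF.2.2
  rcases hx with rfl | hc
  · exact hη
  haveI := isDVR hX hc
  haveI : F.IsQuasicoherent := hF.1.1
  haveI : F.IsFiniteType := hF.1.2
  haveI := finite_stalk_of_isFiniteType (M := F) x
  have hr := (isReflexive_iff_forall_isReflexiveAt F hF.1).1 hF.2.1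
  haveI := torsionFree_of_reflexive F hr x
  haveI : Module.Free (X.presheaf.stalk x) (F.presheaf.stalk x) := Module.free_of_finite_type_torsion_free'
  obtain ⟨U, n, hxU, ⟨i⟩⟩ := exists_nhd_free_of_free_stalk hF.1 (x := x) inferInstance
  obtain ⟨s, hs⟩ := exists_stalkBasis_of_iso i
  obtain rfl : n = 1 := by
    obtain ⟨W, hW, e, he⟩ := hη
    have e1 := (hs.stalkEquiv (genericPoint X) (genericPoint_mem hxU)).trans (LinearEquiv.ofBijective
      (LinearMap.toSpanSingleton (X.presheaf.stalk (genericPoint X)) _ (germM F W (genericPoint X) hW e))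
      (isGen_germM he hW)).symm
    simpa using e1.finrank_eq
  refine ⟨U, hxU, s 0, fun V hV => ?_⟩
  have h1 := (hs.bijective hV).comp (Equiv.funUnique (Fin 1) Γ(X, V)).symm.bijective
  convert h1 using 1
  funext a
  simp [QC70.res, Var76.LineBundle.res]

/-- A coherent reflexive module with a frame at the generic point has rank one. -/
lemma isRef1_of_framed {F : X.Modules} (hF : Coh.IsCoh F) (hr : ∀ x : X, RefHull.IsReflexiveAt F x)
    (hη : Framed F (genericPoint X)) : RefHull.IsRef1 F := by
  refine ⟨hF, (isReflexive_iff_forall_isReflexiveAt F hF).2 hr, ?_⟩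
  obtain ⟨W, hW, e, he⟩ := hη
  refine ⟨W, W.2.dense ⟨_, hW⟩, EGA73.isInvertible_of_iso
    (EGA73.nonempty_restrict_iso_unit F W e he).some.symm EGA73.isInvertible_structureModule⟩

/-- The biduality map at a codimension one point of a normal scheme is surjective. -/
lemma surjective_stalk_bidual (hX : Pi1.IsNormalScheme X) (F : X.Modules) (hF : Coh.IsCoh F) {x : X}
    (hc : Order.coheight x = 1) :
    Function.Surjective (RefHull.stalkMapₗ (RefHull.bidualMap F) x) := by
  haveI := isDVR hX hc
  haveI : F.IsQuasicoherent := hF.1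
  haveI : F.IsFiniteType := hF.2
  haveI := finite_stalk_of_isFiniteType (M := F) x
  obtain ⟨Φ, hΦ, he⟩ := exists_stalk_bidual_eq F hF x
  rw [funext he]
  exact hΦ.2.comp (surjective_eval_of_pid _ _)

end Groth.Agent.Div89.Ref1
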