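import Groth.Agent.Div89.Ref1.Hull
import Groth.Agent.QCTens72.Basic
import Groth.Prelude.Def_RefFun

/-! Rank one reflexive modules and their divisors: isomorphism criterion, tensor, dual, unit. -/

set_option autoImplicit false
set_option linter.style.haveILetI false
set_option backward.isDefEq.respectTransparency.types false

noncomputable section

universe u

open CategoryTheory AlgebraicGeometry TopologicalSpace IsLocalRing
open Groth.Agent.QC70 Groth.Agent.Props58.LocFree

namespace Groth.Agent.Div89.Ref1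

variable {X : Scheme.{u}} [IsIntegral X] [IsLocallyNoetherian X]

lemma smul_bijective_of_ne_zero {F : X.Modules} (hF : Framed F (genericPoint X))
    {s : F.presheaf.stalk (genericPoint X)} (hs : s ≠ 0) :
    Function.Bijective fun c : X.presheaf.stalk (genericPoint X) => c • s := by
  obtain ⟨W, hη, e, he, φ, hφ, rfl⟩ := exists_coord hF hs
  have h : (fun c : X.presheaf.stalk (genericPoint X) =>
      c • ((φ : X.presheaf.stalk (genericPoint X)) • germM F W (genericPoint X) hη e)) =
      (fun c => c • germM F W (genericPoint X) hη e) ∘ Equiv.mulRight₀ (G₀ := X.functionField) φ hφ :=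
    funext fun c => (mul_smul c φ _).symm
  rw [h]
  exact (isGen_germM he hη).comp (Equiv.mulRight₀ (G₀ := X.functionField) φ hφ).bijective

lemma stalks_reflexive {F : X.Modules} (hF : RefHull.IsRef1 F) (x : X) : RefHull.IsReflexiveAt F x :=
  (isReflexive_iff_forall_isReflexiveAt F hF.1).1 hF.2.1 x

lemma exists_ne_zero {F : X.Modules} (hX : Pi1.IsNormalScheme X) (hF : RefHull.IsRef1 F) :
    ∃ s : F.presheaf.stalk (genericPoint X), s ≠ 0 := by
  obtain ⟨W, hW, e, he⟩ := framed_of_isRef1 hX hF (Or.inl rfl)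
  exact ⟨_, germM_ne_zero he hW⟩

/-- Rank one reflexive modules with sections having the same divisor are isomorphic. -/
theorem iso_of_sord (hX : Pi1.IsNormalScheme X) {F G : X.Modules} (hF : RefHull.IsRef1 F) (hG : RefHull.IsRef1 G)
    {s : F.presheaf.stalk (genericPoint X)} (hs : s ≠ 0) {t : G.presheaf.stalk (genericPoint X)} (ht : t ≠ 0)
    (h : ∀ x : X, Order.coheight x = 1 → sord F x s = sord G x t) : Nonempty (F ≅ G) := by
  let eF := LinearEquiv.ofBijective (LinearMap.toSpanSingleton (X.presheaf.stalk (genericPoint X)) _ s)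
    (smul_bijective_of_ne_zero (framed_of_isRef1 hX hF (Or.inl rfl)) hs)
  let eG := LinearEquiv.ofBijective (LinearMap.toSpanSingleton (X.presheaf.stalk (genericPoint X)) _ t)
    (smul_bijective_of_ne_zero (framed_of_isRef1 hX hG (Or.inl rfl)) ht)
  let T := eF.symm.trans eG
  have hT : ∀ a : X.presheaf.stalk (genericPoint X), T (a • s) = a • t := fun a => by
    show eG (eF.symm (eF a)) = _
    rw [LinearEquiv.symm_apply_apply]
    rfl
  have key : ∀ x : X, Order.coheight x = 1 → ∀ v, v ∈ Set.range (toη F x) ↔ T v ∈ Set.range (toη G x) := by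
    intro x hc v
    by_cases hv : v = 0
    · subst hv
      rw [map_zero]
      exact iff_of_true ⟨0, map_zero _⟩ ⟨0, map_zero _⟩
    · obtain ⟨a, rfl⟩ := (smul_bijective_of_ne_zero (framed_of_isRef1 hX hF (Or.inl rfl)) hs).2 v
      have ha : (a : X.functionField) ≠ 0 := fun h0 => hv (by
        show a • s = 0
        rw [show a = (0 : X.presheaf.stalk (genericPoint X)) from h0, zero_smul])
      have hTv : T (a • s) ≠ 0 := T.map_ne_zero_iff.2 hv
      rw [mem_range_toη_iff hX (framed_of_isRef1 hX hF (Or.inr hc)) hc hv,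
        mem_range_toη_iff hX (framed_of_isRef1 hX hG (Or.inr hc)) hc hTv, hT]
      rw [show sord F x (a • s) = _ from sord_smul (framed_of_isRef1 hX hF (Or.inr hc)) hc hs (a : X.functionField) ha,
        show sord G x (a • t) = _ from sord_smul (framed_of_isRef1 hX hG (Or.inr hc)) hc ht (a : X.functionField) ha,
        h x hc]
  obtain ⟨ψ, hψ⟩ := exists_hom hX G hG.1 (stalks_reflexive hG) F T.toLinearMap fun x hc v hv => (key x hc v).1 hv
  obtain ⟨ψ', hψ'⟩ := exists_hom hX F hF.1 (stalks_reflexive hF) G T.symm.toLinearMap fun x hc v hv =>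
    (key x hc _).2 (by rw [LinearEquiv.coe_coe, LinearEquiv.apply_symm_apply]; exact hv)
  refine ⟨⟨ψ, ψ', hom_ext F hF.1 (stalks_reflexive hF) _ _ _ ?_, hom_ext G hG.1 (stalks_reflexive hG) _ _ _ ?_⟩⟩
  · rw [RefFun.stalkMapₗ_comp, RefFun.stalkMapₗ_id, hψ, hψ']
    exact LinearMap.ext fun v => T.symm_apply_apply v
  · rw [RefFun.stalkMapₗ_comp, RefFun.stalkMapₗ_id, hψ, hψ']
    exact LinearMap.ext fun v => T.apply_symm_apply v

lemma bijective_stalk_iso {F G : X.Modules} (e : F ≅ G) (x : X) :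
    Function.Bijective (RefHull.stalkMapₗ e.hom x) := by
  refine Function.bijective_iff_has_inverse.2 ⟨RefHull.stalkMapₗ e.inv x, fun v => ?_, fun v => ?_⟩
  · exact (LinearMap.congr_fun (RefFun.stalkMapₗ_comp e.hom e.inv x) v).symm.trans
      (by rw [e.hom_inv_id, RefFun.stalkMapₗ_id]; rfl)
  · exact (LinearMap.congr_fun (RefFun.stalkMapₗ_comp e.inv e.hom x) v).symm.trans
      (by rw [e.inv_hom_id, RefFun.stalkMapₗ_id]; rfl)

/-- The reflexive tensor product adds divisors. -/
theorem exists_refTensor (hX : Pi1.IsNormalScheme X) {F G : X.Modules} (hF : RefHull.IsRef1 F)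
    (hG : RefHull.IsRef1 G) {s : F.presheaf.stalk (genericPoint X)} (hs : s ≠ 0)
    {t : G.presheaf.stalk (genericPoint X)} (ht : t ≠ 0) :
    RefHull.IsRef1 (RefHull.ddual (CohB1.tensorMod F G)) ∧
    ∃ w : (RefHull.ddual (CohB1.tensorMod F G)).presheaf.stalk (genericPoint X), w ≠ 0 ∧
      ∀ x : X, Order.coheight x = 1 →
        sord (RefHull.ddual (CohB1.tensorMod F G)) x w = sord F x s + sord G x t := by
  haveI : F.IsQuasicoherent := hF.1.1
  haveI : F.IsFiniteType := hF.1.2
  haveI : G.IsQuasicoherent := hG.1.1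
  haveI : G.IsFiniteType := hG.1.2
  have hT : Coh.IsCoh (CohB1.tensorMod F G) :=
    ⟨QCTens72.isQuasicoherent_tensorMod F G, QCTens72.isFiniteType_tensorMod F G⟩
  have hfη : Framed (CohB1.tensorMod F G) (genericPoint X) := by
    obtain ⟨W, hW, e, he⟩ := framed_of_isRef1 hX hF (Or.inl rfl)
    obtain ⟨W', hW', e', he'⟩ := framed_of_isRef1 hX hG (Or.inl rfl)
    exact ⟨W ⊓ W', ⟨hW, hW'⟩, _, Amp73.isFrame_tm (he.res inf_le_left) (he'.res inf_le_right)⟩
  have hD : Coh.IsCoh (RefHull.ddual (CohB1.tensorMod F G)) := isCoh_dual _ (isCoh_dual _ hT)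
  have hb : ∀ x, Framed (CohB1.tensorMod F G) x →
      Function.Bijective (RefHull.stalkMapₗ (RefHull.bidualMap (CohB1.tensorMod F G)) x) := fun x hx =>
    bijective_stalk_bidual _ hT x (isReflexiveAt_of_framed hx)
  refine ⟨isRef1_of_framed hD (isReflexiveAt_ddual _ hT)
    (framed_of_bijective hD _ hfη (hb _ hfη)), ?_⟩
  obtain ⟨w, hw, hwx⟩ := exists_tensor_sord F G (framed_of_isRef1 hX hF (Or.inl rfl))
    (framed_of_isRef1 hX hG (Or.inl rfl)) hs ht
  refine ⟨RefHull.stalkMapₗ (RefHull.bidualMap (CohB1.tensorMod F G)) (genericPoint X) w,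
    fun h0 => hw ((hb _ hfη).1 (h0.trans (map_zero _).symm)), fun x hc => ?_⟩
  obtain ⟨hfx, hsum⟩ := hwx x hc (framed_of_isRef1 hX hF (Or.inr hc)) (framed_of_isRef1 hX hG (Or.inr hc))
  rw [sord_map _ hc hfx (hb x hfx) (hb _ hfη).1 hw, hsum]

lemma isFrame_unit : Var76.LineBundle.IsFrame (Coh.structureModule X) ⊤ (toUnit (1 : Γ(X, ⊤))) := by
  intro V hV
  have h : (fun a : Γ(X, V) => a • Var76.LineBundle.res (Coh.structureModule X) hV (toUnit (1 : Γ(X, ⊤)))) =
      fun a => toUnit a := funext fun a => by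
    show a • QC70.res (unitMod X) hV (toUnit (1 : Γ(X, ⊤))) = _
    rw [res_unit, smul_unit, show resO X hV (1 : Γ(X, ⊤)) = 1 from
      map_one (X.presheaf.map (homOfLE hV).op).hom, mul_one]
  rw [h]
  exact Function.bijective_id

lemma isRef1_structureModule : RefHull.IsRef1 (Coh.structureModule X) :=
  isRef1_of_framed isCoh_structureModule
    (fun x => isReflexiveAt_of_framed ⟨⊤, trivial, _, isFrame_unit⟩) ⟨⊤, trivial, _, isFrame_unit⟩

/-- The unit section of the structure sheaf has trivial divisor. -/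
lemma exists_unit_section :
    ∃ o : (Coh.structureModule X).presheaf.stalk (genericPoint X), o ≠ 0 ∧
      ∀ x : X, Order.coheight x = 1 → sord (Coh.structureModule X) x o = 0 := by
  refine ⟨germM _ ⊤ (genericPoint X) trivial (toUnit (1 : Γ(X, ⊤))), germM_ne_zero isFrame_unit _, fun x hc => ?_⟩
  have h := sord_frame isFrame_unit (trivial : genericPoint X ∈ (⊤ : X.Opens)) (trivial : x ∈ (⊤ : X.Opens))
    hc (1 : X.functionField) one_ne_zero
  rw [one_smul] at h
  rw [h]
  exact (Scheme.ord_eq_iff hc one_ne_zero).2 ((map_one _).trans rfl)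

omit [IsLocallyNoetherian X] in
lemma evalStalk_toη (F G : X.Modules) {x : X} (δ : (RefHull.homSh F G).presheaf.stalk x)
    (v : F.presheaf.stalk x) :
    RefHull.evalStalk F G (genericPoint X) (toη (RefHull.homSh F G) x δ) (toη F x v) =
      toη G x (RefHull.evalStalk F G x δ v) := by
  obtain ⟨U, hxU, θ, rfl⟩ := germM_exist δ
  obtain ⟨W, hxW, m, rfl⟩ := germM_exist v
  obtain ⟨W', hxW', j, n, hn⟩ := RefHull.isLocSect_of_mem θ (U ⊓ W) (homOfLE inf_le_left)
    (res F inf_le_right m) ⟨x, hxU, hxW⟩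
  rw [toη_germ, toη_germ, evalStalk_germ', evalStalk_germ']
  have hη' : genericPoint X ∈ W' := genericPoint_mem hxW'
  have h1 : θ.1 ⟨x, hxU⟩ (germM F (U ⊓ W) x ⟨hxU, hxW⟩ (res F inf_le_right m)) = germM G W' x hxW' n :=
    hn ⟨x, hxW'⟩
  have h2 : θ.1 ⟨genericPoint X, genericPoint_mem hxU⟩
      (germM F (U ⊓ W) (genericPoint X) ⟨genericPoint_mem hxU, genericPoint_mem hxW⟩ (res F inf_le_right m)) =
      germM G W' (genericPoint X) hη' n :=
    hn ⟨genericPoint X, hη'⟩
  rw [germM_res] at h1 h2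
  rw [h1, h2]
  exact (toη_germ G x hxW' n).symm

/-- The dual negates divisors. -/
theorem exists_dual_sord (hX : Pi1.IsNormalScheme X) {F : X.Modules} (hF : RefHull.IsRef1 F)
    {s : F.presheaf.stalk (genericPoint X)} (hs : s ≠ 0) :
    RefHull.IsRef1 (RefHull.dual F) ∧
    ∃ θ : (RefHull.dual F).presheaf.stalk (genericPoint X), θ ≠ 0 ∧
      ∀ x : X, Order.coheight x = 1 → sord (RefHull.dual F) x θ = - sord F x s := by
  haveI : CohB1.IsFP F := isFP_of_isCoh hF.1
  have hD := isCoh_dual F hF.1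
  -- dual generators
  have gen : ∀ x : X, ∀ v : F.presheaf.stalk x, Function.Bijective (fun c : X.presheaf.stalk x => c • v) →
      ∃ δ : (RefHull.dual F).presheaf.stalk x, Function.Bijective (fun c : X.presheaf.stalk x => c • δ) ∧
        RefHull.evalStalk F (Coh.structureModule X) x δ v = germM _ ⊤ x trivial (toUnit (1 : Γ(X, ⊤))) := by
    intro x v hv
    let o := germM (Coh.structureModule X) ⊤ x trivial (toUnit (1 : Γ(X, ⊤)))
    let eF := LinearEquiv.ofBijective (LinearMap.toSpanSingleton (X.presheaf.stalk x) _ v) hv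
    let l : RefHull.StalkHom F (Coh.structureModule X) x :=
      (LinearMap.toSpanSingleton (X.presheaf.stalk x) _ o) ∘ₗ eF.symm.toLinearMap
    obtain ⟨δ, hδ⟩ := evalStalk_surjective F (Coh.structureModule X) x l
    have hlv : ∀ c : X.presheaf.stalk x, l (c • v) = c • o := fun c => by
      show (LinearMap.toSpanSingleton (X.presheaf.stalk x) _ o) (eF.symm (eF c)) = _
      rw [LinearEquiv.symm_apply_apply]
      rfl
    refine ⟨δ, ⟨fun a b hab => ?_, fun z => ?_⟩, ?_⟩
    · have h := LinearMap.congr_fun (congrArg (RefHull.evalStalk F (Coh.structureModule X) x) hab) v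
      simp only [map_smul, LinearMap.smul_apply, hδ] at h
      have h1 : l v = o := by simpa using hlv 1
      rw [h1] at h
      exact (isGen_germM (isFrame_unit (X := X)) (trivial : x ∈ (⊤ : X.Opens))).1 h
    · obtain ⟨a, ha⟩ := (isGen_germM (isFrame_unit (X := X)) (trivial : x ∈ (⊤ : X.Opens))).2
        (RefHull.evalStalk F (Coh.structureModule X) x z v)
      refine ⟨a, (evalStalk_bijective F _ x).1 (LinearMap.ext fun e => ?_)⟩
      obtain ⟨c, rfl⟩ := hv.2 e
      simp only [map_smul, LinearMap.smul_apply, hδ]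
      rw [show l v = o from by simpa using hlv 1, smul_comm]
      show a • c • o = c • RefHull.evalStalk F _ x z v
      rw [← ha, smul_comm]
    · rw [hδ]
      simpa using hlv 1
  obtain ⟨θ, hθ, hθs⟩ := gen (genericPoint X) s (smul_bijective_of_ne_zero (framed_of_isRef1 hX hF (Or.inl rfl)) hs)
  have hθ0 : θ ≠ 0 := fun h0 => one_ne_zero (α := X.functionField)
    (hθ.1 (a₁ := (1 : X.presheaf.stalk (genericPoint X))) (a₂ := 0) (by simp [h0]))
  refine ⟨isRef1_of_framed hD (isReflexiveAt_dual F hF.1) (framed_of_isGen hD θ hθ), θ, hθ0, fun x hc => ?_⟩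
  obtain ⟨W, hx, e, he, φ, hφ, hsφ⟩ := exists_coord (framed_of_isRef1 hX hF (Or.inr hc)) hs
  obtain ⟨δ, hδ, hδe⟩ := gen x (germM F W x hx e) (isGen_germM he hx)
  have hspan : Submodule.span (X.presheaf.stalk x) {δ} = ⊤ :=
    eq_top_iff.2 fun v _ => Submodule.mem_span_singleton.2 (hδ.2 v)
  have h1 : RefHull.evalStalk F (Coh.structureModule X) (genericPoint X) (toη _ x δ)
      (germM F W (genericPoint X) (genericPoint_mem hx) e) =
      germM (Coh.structureModule X) ⊤ (genericPoint X) trivial (toUnit (1 : Γ(X, ⊤))) := by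
    rw [← toη_germ F x hx e, evalStalk_toη, hδe, toη_germ]
  have h2 : θ = (φ⁻¹ : X.functionField) • toη (RefHull.dual F) x δ := by
    refine (evalStalk_bijective F _ _).1 (LinearMap.ext fun v => ?_)
    obtain ⟨c, rfl⟩ := (smul_bijective_of_ne_zero (framed_of_isRef1 hX hF (Or.inl rfl)) hs).2 v
    rw [map_smul, map_smul, hθs]
    show c • _ = c • RefHull.evalStalk F _ _ ((φ⁻¹ : X.presheaf.stalk (genericPoint X)) • _) s
    rw [map_smul, LinearMap.smul_apply, hsφ, map_smul, h1, smul_smul (φ⁻¹ : X.presheaf.stalk (genericPoint X))]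
    rw [show (φ⁻¹ * φ : X.presheaf.stalk (genericPoint X)) = 1 from inv_mul_cancel₀ hφ, one_smul]
  have hne : toη (RefHull.dual F) x δ ≠ 0 := fun h0 => hθ0 (by rw [h2, h0]; exact smul_zero _)
  rw [h2, hsφ, sord_frame he (genericPoint_mem hx) hx hc φ hφ]
  exact (sord_eq _ hc δ hspan hne φ⁻¹ (inv_ne_zero hφ)).trans (ord_inv φ hφ x)

end Groth.Agent.Div89.Ref1
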