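import Groth.Agent.Div89.Ref1.Class
import Groth.Agent.Div89.DepthExt

/-! The reflexive sheaf of a Weil divisor on a normal scheme. -/

set_option autoImplicit false
set_option linter.style.haveILetI false
set_option backward.isDefEq.respectTransparency.types false

noncomputable section

universe u

open CategoryTheory AlgebraicGeometry TopologicalSpace IsLocalRing Opposite
open Groth.Agent.QC70 Groth.Agent.Props58.LocFree

namespace Groth.Agent.Div89.Ref1

variable {X : Scheme.{u}} [IsIntegral X]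

lemma algebraMap_germ {U : X.Opens} {x : X} (hx : x ∈ U) (r : Γ(X, U)) :
    algebraMap (X.presheaf.stalk x) X.functionField (X.presheaf.germ U x hx r) =
      X.presheaf.germ U (genericPoint X) (genericPoint_mem hx) r :=
  TopCat.Presheaf.germ_stalkSpecializes_apply X.presheaf hx
    ((genericPoint_spec X).specializes trivial) r

variable [IsLocallyNoetherian X]

lemma ord_one' {x : X} (hc : Order.coheight x = 1) : Scheme.ord (1 : X.functionField) x = 0 :=
  (Scheme.ord_eq_iff hc one_ne_zero).2 ((map_one _).trans rfl)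

lemma ord_pos (hX : Pi1.IsNormalScheme X) {x : X} (hc : Order.coheight x = 1) {a : X.presheaf.stalk x}
    (ha : a ≠ 0) (hu : ¬ IsUnit a) :
    1 ≤ Scheme.ord (algebraMap (X.presheaf.stalk x) X.functionField a) x := by
  let φ := algebraMap (X.presheaf.stalk x) X.functionField a
  have hφ : φ ≠ 0 := (map_ne_zero_iff _ (IsFractionRing.injective _ _)).2 ha
  have h0 : 0 ≤ Scheme.ord φ x := (mem_range_iff hX hc hφ).1 ⟨a, rfl⟩
  by_contra h
  have h1 : Scheme.ord φ x = 0 := by
    change ¬ (1 ≤ Scheme.ord φ x) at h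
    omega
  obtain ⟨b, hb⟩ := (mem_range_iff hX hc (inv_ne_zero hφ)).2 (by rw [ord_inv φ hφ, h1]; rfl)
  refine hu (IsUnit.of_mul_eq_one b (IsFractionRing.injective (X.presheaf.stalk x) X.functionField ?_))
  rw [map_mul, hb, map_one]
  exact mul_inv_cancel₀ hφ

/-- The valuative condition cutting out the sheaf of a divisor. -/
def GE (D : X → ℤ) (x : X) (v : X.functionField) : Prop := v = 0 ∨ -D x ≤ Scheme.ord v x

variable {D : X → ℤ}

lemma GE.add (hX : Pi1.IsNormalScheme X) {x : X} (hc : Order.coheight x = 1) {v w : X.functionField}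
    (hv : GE D x v) (hw : GE D x w) : GE D x (v + w) := by
  haveI := isDVR hX hc
  by_cases h : v + w = 0
  · exact Or.inl h
  rcases hv with rfl | hv
  · rw [zero_add]; exact hw
  rcases hw with rfl | hw
  · rw [add_zero]; exact Or.inr hv
  exact Or.inr ((le_min hv hw).trans (Scheme.ord_add h))

lemma GE.algebraMap_mul (hX : Pi1.IsNormalScheme X) {x : X} (hc : Order.coheight x = 1)
    {v : X.functionField} (hv : GE D x v) (a : X.presheaf.stalk x) :
    GE D x (algebraMap (X.presheaf.stalk x) X.functionField a * v) := by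
  by_cases ha : algebraMap (X.presheaf.stalk x) X.functionField a = 0
  · exact Or.inl (by rw [ha, zero_mul])
  rcases hv with rfl | hv
  · exact Or.inl (mul_zero _)
  by_cases hv0 : v = 0
  · exact Or.inl (by rw [hv0, mul_zero])
  refine Or.inr ?_
  rw [Scheme.ord_mul ha hv0]
  have := (mem_range_iff hX hc ha).1 ⟨a, rfl⟩
  omega

variable (D)

/-- Constant functions satisfying the valuative condition in codimension one. -/
def divPre : TopCat.PrelocalPredicate (fun _ : X => (X.functionField : Type u)) where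
  pred {U} f := (∀ x y : U, f x = f y) ∧ ∀ x : U, Order.coheight x.1 = 1 → GE D x.1 (f x)
  res {V U} i f h := ⟨fun x y => h.1 (i x) (i y), fun x hc => h.2 (i x) hc⟩

/-- The local predicate of the sheaf of a divisor. -/
def divLoc : TopCat.LocalPredicate (fun _ : X => (X.functionField : Type u)) where
  toPrelocalPredicate := divPre D
  locality {U} f h := by
    refine ⟨fun x y => ?_, fun x hc => ?_⟩
    · obtain ⟨V, hxV, i, hV⟩ := h x
      obtain ⟨W, hyW, j, hW⟩ := h y
      exact (hV.1 ⟨x.1, hxV⟩ ⟨genericPoint X, genericPoint_mem hxV⟩).trans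
        (hW.1 ⟨genericPoint X, genericPoint_mem hyW⟩ ⟨y.1, hyW⟩)
    · obtain ⟨V, hxV, i, hV⟩ := h x
      exact hV.2 ⟨x.1, hxV⟩ hc

variable {D}

lemma isModPred (hX : Pi1.IsNormalScheme X) : Mero.IsModPred (T := fun _ : X => (X.functionField : Type u)) (divLoc D) where
  zero U := ⟨fun _ _ => rfl, fun _ _ => Or.inl rfl⟩
  add U f g hf hg := ⟨fun x y => congrArg₂ (· + ·) (hf.1 x y) (hg.1 x y),
    fun x hc => (hf.2 x hc).add hX hc (hg.2 x hc)⟩
  smul U r f hf := by
    refine ⟨fun x y => ?_, fun x hc => ?_⟩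
    · show X.presheaf.germ U x.1 x.2 r • f x = X.presheaf.germ U y.1 y.2 r • f y
      rw [Algebra.smul_def, Algebra.smul_def, hf.1 x y]
      exact congrArg (· * f y) ((algebraMap_germ x.2 r).trans (algebraMap_germ y.2 r).symm)
    · show GE D x.1 (X.presheaf.germ U x.1 x.2 r • f x)
      rw [Algebra.smul_def]
      exact (hf.2 x hc).algebraMap_mul hX hc _

variable (D) (hX : Pi1.IsNormalScheme X)

/-- The sheaf of a Weil divisor. -/
def divMod : X.Modules :=
  haveI := isModPred (D := D) hX
  Mero.modOf (T := fun _ : X => (X.functionField : Type u)) (divLoc D)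

variable {D}

/-- The rational function of a section. -/
def val {U : X.Opens} (hη : genericPoint X ∈ U) (f : Γ(divMod D hX, U)) : X.functionField :=
  f.1 ⟨genericPoint X, hη⟩

lemma apply_eq_val {U : X.Opens} (hη : genericPoint X ∈ U) (f : Γ(divMod D hX, U)) (x : U) :
    f.1 x = val hX hη f := f.2.1 x ⟨genericPoint X, hη⟩

lemma val_ge {U : X.Opens} (hη : genericPoint X ∈ U) (f : Γ(divMod D hX, U)) {x : X} (hx : x ∈ U)
    (hc : Order.coheight x = 1) : GE D x (val hX hη f) := by
  rw [← apply_eq_val hX hη f ⟨x, hx⟩]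
  exact f.2.2 ⟨x, hx⟩ hc

lemma sec_eq {U : X.Opens} (f g : Γ(divMod D hX, U))
    (h : ∀ hη : genericPoint X ∈ U, val hX hη f = val hX hη g) : f = g := by
  refine Subtype.ext (funext fun x => ?_)
  have hη : genericPoint X ∈ U := genericPoint_mem x.2
  exact (apply_eq_val hX hη f x).trans ((h hη).trans (apply_eq_val hX hη g x).symm)

lemma exists_sec (U : X.Opens) (φ : X.functionField)
    (h : ∀ x ∈ U, Order.coheight x = 1 → GE D x φ) :
    ∃ f : Γ(divMod D hX, U), ∀ hη, val hX hη f = φ :=
  ⟨⟨fun _ => φ, fun _ _ => rfl, fun x hc => h x.1 x.2 hc⟩, fun _ => rfl⟩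

lemma val_res {U V : X.Opens} (h : V ≤ U) (hη : genericPoint X ∈ V) (f : Γ(divMod D hX, U)) :
    val hX hη (res (divMod D hX) h f) = val hX (h hη) f := rfl

lemma val_smul {U : X.Opens} (hη : genericPoint X ∈ U) (r : Γ(X, U)) (f : Γ(divMod D hX, U)) :
    val hX hη (r • f) = (X.presheaf.germ U (genericPoint X) hη r : X.functionField) * val hX hη f := by
  haveI := isModPred (D := D) hX
  refine (Mero.modOf_smul_apply (T := fun _ : X => (X.functionField : Type u)) (divLoc D) r f ⟨_, hη⟩).trans ?_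
  refine (@Algebra.smul_def (X.presheaf.stalk (genericPoint X)) X.functionField _ _
    (stalkFunctionFieldAlgebra X (genericPoint X))
    (X.presheaf.germ U (genericPoint X) hη r) (val hX hη f)).trans ?_
  rw [algebraMap_germ]

lemma val_zero {U : X.Opens} (hη : genericPoint X ∈ U) : val hX hη (0 : Γ(divMod D hX, U)) = 0 := rfl

lemma val_add {U : X.Opens} (hη : genericPoint X ∈ U) (f g : Γ(divMod D hX, U)) :
    val hX hη (f + g) = val hX hη f + val hX hη g := rfl

lemma germM_eq_zero_val {U : X.Opens} {x : X} (hx : x ∈ U) (f : Γ(divMod D hX, U))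
    (h : germM (divMod D hX) U x hx f = 0) : f = 0 := by
  obtain ⟨W, hW, hxW, h0⟩ := germM_eq_zero h
  refine sec_eq hX _ _ fun hη => ?_
  have h1 := congrArg (val hX (genericPoint_mem hxW)) h0
  rw [val_res, val_zero] at h1
  rw [val_zero]
  exact h1

theorem isQCoh_divMod : Coh.IsQCoh (divMod D hX) := by
  classical
  refine isQuasicoherent_of_forall_isLocAt _ fun U hU => ⟨fun f s => ?_, fun f t ht => ?_⟩
  · by_cases hD : genericPoint X ∈ X.basicOpen f
    swap
    · refine ⟨1, 0, sec_eq hX _ _ fun hη => absurd hη hD⟩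
    let φ := val hX hD s
    let V : X.affineOpens := ⟨U, hU⟩
    let B := (height_one_finite_notMem V (X.basicOpen f) hD).toFinset
    let n := B.sup fun x => (-D x - Scheme.ord φ x).toNat
    have hηU : genericPoint X ∈ U := X.basicOpen_le f hD
    let fη : X.functionField := X.presheaf.germ U (genericPoint X) hηU f
    have hfη : fη ≠ 0 :=
      ((X.mem_basicOpen f (genericPoint X) hηU).1 hD).ne_zero
    obtain ⟨t, ht⟩ := exists_sec hX U (fη ^ n * φ) fun x hx hc => by
      by_cases hφ : φ = 0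
      · exact Or.inl (by rw [hφ, mul_zero])
      refine Or.inr ?_
      have hpow : ∀ m : ℕ, Scheme.ord (fη ^ m) x = m * Scheme.ord fη x := fun m => by
        induction m with
        | zero => rw [pow_zero, ord_one' hc]; simp
        | succ m ih => rw [pow_succ, Scheme.ord_mul (pow_ne_zero _ hfη) hfη, ih]; push_cast; ring
      rw [Scheme.ord_mul (pow_ne_zero _ hfη) hφ, hpow]
      have halg : algebraMap (X.presheaf.stalk x) X.functionField (X.presheaf.germ U x hx f) = fη :=
        algebraMap_germ hx f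
      by_cases hxf : x ∈ X.basicOpen f
      · rcases val_ge hX hD s hxf hc with h0 | h0
        · exact absurd h0 hφ
        have := ord_algebraMap_of_isUnit hc ((X.mem_basicOpen f x hx).1 hxf)
        rw [halg] at this
        rw [this, mul_zero, zero_add]
        exact h0
      · have hne : X.presheaf.germ U x hx f ≠ 0 := fun h0 => hfη (by rw [← halg, h0, map_zero])
        have h1 := ord_pos hX hc hne fun hu => hxf ((X.mem_basicOpen f x hx).2 hu)
        rw [halg] at h1
        have h2 : (-D x - Scheme.ord φ x).toNat ≤ n :=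
          Finset.le_sup (f := fun x => (-D x - Scheme.ord φ x).toNat)
            ((height_one_finite_notMem V (X.basicOpen f) hD).mem_toFinset.2 ⟨hx, hc, hxf⟩)
        have h3 : (n : ℤ) ≤ n * Scheme.ord fη x := le_mul_of_one_le_right (by positivity) h1
        omega
    refine ⟨n, t, sec_eq hX _ _ fun hη => ?_⟩
    rw [val_res, ht, val_smul, map_pow, germ_resO]
  · by_cases hD : genericPoint X ∈ X.basicOpen f
    · refine ⟨0, sec_eq hX _ _ fun hη => ?_⟩
      have h1 := congrArg (val hX hD) ht
      rw [val_res, val_zero] at h1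
      rw [pow_zero, one_smul, val_zero]
      exact h1
    · refine ⟨1, sec_eq hX _ _ fun hη => ?_⟩
      have h0 : X.presheaf.germ U (genericPoint X) hη f = (0 : X.functionField) := by
        by_contra h
        exact hD ((X.mem_basicOpen f _ hη).2 ((isUnit_iff_ne_zero (G₀ := X.functionField)).2 h))
      rw [pow_one, val_smul, h0, zero_mul, val_zero]

lemma finite_neg (D : X → ℤ) (hD : ∀ x : X, ∃ N ∈ nhds x, (N ∩ Function.support D).Finite)
    (V : X.affineOpens) : {x : X | x ∈ V.1 ∧ D x ≠ 0}.Finite := by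
  choose N hN hfin using hD
  obtain ⟨t, ht⟩ := V.2.isCompact.elim_nhds_subcover (fun x => N x) fun x _ => hN x
  refine (t.finite_toSet.biUnion fun x _ => hfin x).subset ?_
  rintro x ⟨hx, hne⟩
  obtain ⟨y, hy, hxy⟩ := Set.mem_iUnion₂.1 (ht.2 hx)
  exact Set.mem_biUnion hy ⟨hxy, hne⟩

variable (hD : ∀ x : X, ∃ N ∈ nhds x, (N ∩ Function.support D).Finite)
include hD

theorem isCoh_divMod : Coh.IsCoh (divMod D hX) := by
  classical
  haveI : (divMod D hX).IsQuasicoherent := isQCoh_divMod hX
  refine ⟨isQCoh_divMod hX, isFiniteType_of_finite_sections _ (fun U : X.affineOpens => U.1)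
    (iSup_affineOpens_eq_top X) (fun U => U.2) fun U => ?_⟩
  haveI := isNoetherianRing_sections U
  by_cases hηU : genericPoint X ∈ U.1
  swap
  · haveI : Subsingleton Γ(divMod D hX, U.1) := ⟨fun a b => sec_eq hX a b fun h => absurd h hηU⟩
    infer_instance
  haveI : Nonempty U.1 := ⟨⟨_, hηU⟩⟩
  -- a denominator
  have hfin : {x : X | x ∈ U.1 ∧ Order.coheight x = 1 ∧ 0 < D x}.Finite :=
    (finite_neg D hD U).subset fun x hx => ⟨hx.1, hx.2.2.ne'⟩
  have hex : ∀ x ∈ hfin.toFinset, ∃ a : Γ(X, U.1), a ≠ 0 ∧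
      ∀ hx : x ∈ U.1, a ∈ primeAt U x hx := by
    intro x hx
    obtain ⟨hxU, hc, -⟩ := hfin.mem_toFinset.1 hx
    have hh : (primeAt U x hxU).height = 1 := (height_primeAt_eq_coheight U x hxU).trans hc
    obtain ⟨a, ha, ha0⟩ := Submodule.exists_mem_ne_zero_of_ne_bot (p := primeAt U x hxU) fun h0 => by
      rw [h0, Ideal.height_bot] at hh
      exact zero_ne_one hh
    exact ⟨a, ha0, fun _ => ha⟩
  choose a ha0 hap using hex
  let c : Γ(X, U.1) := ∏ x ∈ hfin.toFinset.attach, a x.1 x.2 ^ (D x.1).toNat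
  have hc0 : c ≠ 0 := Finset.prod_ne_zero_iff.2 fun x _ => pow_ne_zero _ (ha0 x.1 x.2)
  let cη : X.functionField := X.presheaf.germ U.1 (genericPoint X) hηU c
  have hcη : cη ≠ 0 :=
    (map_ne_zero_iff _ (germ_injective_of_isIntegral X _ hηU)).2 hc0
  have hord : ∀ x ∈ U.1, Order.coheight x = 1 → D x ≤ Scheme.ord cη x := by
    intro x hx hc1
    have halg : algebraMap (X.presheaf.stalk x) X.functionField (X.presheaf.germ U.1 x hx c) = cη :=
      algebraMap_germ hx c
    have h0 : 0 ≤ Scheme.ord cη x := (mem_range_iff hX hc1 hcη).1 ⟨_, halg⟩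
    by_cases hpos : 0 < D x
    swap
    · omega
    have hxm : x ∈ hfin.toFinset := hfin.mem_toFinset.2 ⟨hx, hc1, hpos⟩
    obtain ⟨d, hd⟩ : a x hxm ^ (D x).toNat ∣ c :=
      Finset.dvd_prod_of_mem (fun x : hfin.toFinset => a x.1 x.2 ^ (D x.1).toNat) (Finset.mem_attach _ ⟨x, hxm⟩)
    let α : X.functionField := X.presheaf.germ U.1 (genericPoint X) hηU (a x hxm)
    let δ : X.functionField := X.presheaf.germ U.1 (genericPoint X) hηU d
    have hα : α ≠ 0 := (map_ne_zero_iff _ (germ_injective_of_isIntegral X _ hηU)).2 (ha0 x hxm)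
    have hδ : δ ≠ 0 := (map_ne_zero_iff _ (germ_injective_of_isIntegral X _ hηU)).2 fun h => hc0 (by rw [hd, h, mul_zero])
    have hα1 : 1 ≤ Scheme.ord α x := by
      rw [show α = algebraMap (X.presheaf.stalk x) X.functionField (X.presheaf.germ U.1 x hx (a x hxm)) from
        (algebraMap_germ hx _).symm]
      refine ord_pos hX hc1 (fun h => hα ?_) fun hu => (germ_isUnit_iff U x hx _).1 hu (hap x hxm hx)
      rw [show α = _ from (algebraMap_germ hx _).symm, h, map_zero]
    have hδ0 : 0 ≤ Scheme.ord δ x := (mem_range_iff hX hc1 hδ).1 ⟨_, algebraMap_germ hx d⟩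
    have hpow : ∀ m : ℕ, Scheme.ord (α ^ m) x = m * Scheme.ord α x := fun m => by
      induction m with
      | zero => rw [pow_zero, ord_one' hc1]; simp
      | succ m ih => rw [pow_succ, Scheme.ord_mul (pow_ne_zero _ hα) hα, ih]; push_cast; ring
    have hsplit : cη = α ^ (D x).toNat * δ := by simp only [cη, α, δ, hd, map_mul, map_pow]
    rw [hsplit, Scheme.ord_mul (pow_ne_zero _ hα) hδ, hpow]
    have h3 : ((D x).toNat : ℤ) ≤ (D x).toNat * Scheme.ord α x := le_mul_of_one_le_right (by positivity) hα1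
    omega
  -- multiplication by the denominator lands in functions
  have key : ∀ f : Γ(divMod D hX, U.1), ∃ b : Γ(X, U.1),
      (X.presheaf.germ U.1 (genericPoint X) hηU b : X.functionField) = cη * val hX hηU f := by
    intro f
    obtain ⟨b, hb⟩ := exists_section hX (Coh.structureModule X) isCoh_structureModule
      (stalks_reflexive isRef1_structureModule) U.1 hηU (unitStalkEquiv (genericPoint X) (cη * val hX hηU f))
      (fun x hx hc1 => by
        have : ∃ a, algebraMap (X.presheaf.stalk x) X.functionField a = cη * val hX hηU f := by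
          by_cases h : cη * val hX hηU f = 0
          · exact ⟨0, by rw [map_zero, h]⟩
          rw [mem_range_iff hX hc1 h, Scheme.ord_mul hcη (right_ne_zero_of_mul h)]
          rcases val_ge hX hηU f hx hc1 with h1 | h1
          · exact absurd h1 (right_ne_zero_of_mul h)
          · have := hord x hx hc1
            omega
        obtain ⟨b, hb⟩ := this
        refine ⟨unitStalkEquiv x b, ?_⟩
        obtain ⟨W', hxW', b', rfl⟩ := TopCat.Presheaf.exists_germ_eq X.presheaf b
        rw [unitStalkEquiv_germ, toη_germ, ← unitStalkEquiv_germ, ← hb, algebraMap_germ])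
    refine ⟨(show Γ(X, U.1) from b), (unitStalkEquiv (genericPoint X)).injective ?_⟩
    erw [unitStalkEquiv_germ]
    exact hb
  choose b hb using key
  have hinj := germ_injective_of_isIntegral X (genericPoint X) hηU
  let L : Γ(divMod D hX, U.1) →ₗ[Γ(X, U.1)] Γ(X, U.1) :=
    { toFun := b
      map_add' := fun f g => hinj (by
        rw [map_add]
        exact (hb (f + g)).trans ((congrArg (cη * ·) (val_add hX hηU f g)).trans
          ((mul_add _ _ _).trans (congrArg₂ (· + ·) (hb f).symm (hb g).symm))))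
      map_smul' := fun r f => hinj (by
        rw [RingHom.id_apply, smul_eq_mul, map_mul]
        exact (hb (r • f)).trans ((congrArg (cη * ·) (val_smul hX hηU r f)).trans
          ((mul_left_comm _ _ _).trans (congrArg (_ * ·) (hb f).symm)))) }
  refine Module.Finite.of_injective L fun f g h => sec_eq hX _ _ fun hη => ?_
  have h1 := congrArg (X.presheaf.germ U.1 (genericPoint X) hηU) h
  exact mul_left_cancel₀ hcη ((hb f).symm.trans (h1.trans (hb g)))

lemma exists_nhd_finite_avoid (x : X) (hc : Order.coheight x = 1 ∨ x = genericPoint X)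
    (B : Set X) (hB : ∀ V : X.affineOpens, (B ∩ V.1).Finite) (hB1 : ∀ y ∈ B, Order.coheight y = 1 ∧ y ≠ x) :
    ∃ W : X.Opens, x ∈ W ∧ ∀ y ∈ W, y ∉ B := by
  obtain ⟨V, hxV⟩ := exists_affine_mem x
  refine ⟨⟨(V.1 : Set X) ∩ (⋃ y ∈ B ∩ V.1, closure {y})ᶜ,
    V.1.2.inter ((hB V).isClosed_biUnion fun y _ => isClosed_closure).isOpen_compl⟩, ⟨hxV, fun hmem => ?_⟩,
    fun y hy hyB => hy.2 (Set.mem_iUnion₂.2 ⟨y, ⟨hyB, hy.1⟩, subset_closure rfl⟩)⟩
  obtain ⟨y, ⟨hyB, hyV⟩, hyx⟩ := Set.mem_iUnion₂.1 hmem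
  obtain ⟨hy1, hne⟩ := hB1 y hyB
  have hsp : y ⤳ x := specializes_iff_mem_closure.2 hyx
  haveI : Nonempty V.1 := ⟨⟨x, hxV⟩⟩
  haveI := isNoetherianRing_sections V
  rcases hc with hc | rfl
  · refine hne (primeAt_inj V hyV hxV (eq_of_le_of_height_eq_one ?_
      ((specializes_iff_primeAt_le V hxV hyV).1 hsp) ?_))
    · exact (height_primeAt_eq_coheight V x hxV).trans hc
    · intro h0
      have hh : (primeAt V y hyV).height = 1 := (height_primeAt_eq_coheight V y hyV).trans hy1
      rw [h0, Ideal.height_bot] at hh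
      exact zero_ne_one hh
  · exact hne (hsp.antisymm ((genericPoint_spec X).specializes trivial)).eq

theorem torsionFree_divMod (x : X) :
    Module.IsTorsionFree (X.presheaf.stalk x) ((divMod D hX).presheaf.stalk x) := by
  refine isTorsionFree_of_noZeroSMulDivisors ⟨fun {a z} h => ?_⟩
  obtain ⟨A, hxA, a₀, rfl⟩ := TopCat.Presheaf.exists_germ_eq X.presheaf a
  obtain ⟨B, hxB, f, rfl⟩ := germM_exist z
  have hxAB : x ∈ A ⊓ B := ⟨hxA, hxB⟩
  rw [← germ_resO (inf_le_left : A ⊓ B ≤ A) hxAB a₀, ← germM_res (inf_le_right : A ⊓ B ≤ B) hxAB f,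
    ← germM_smul] at h
  have h1 := congrArg (val hX (genericPoint_mem hxAB)) (germM_eq_zero_val hX hxAB _ h)
  rw [val_smul, val_zero, val_res, germ_resO] at h1
  rcases mul_eq_zero.1 h1 with h2 | h2
  · refine Or.inl ?_
    haveI : Nonempty A := ⟨⟨x, hxA⟩⟩
    rw [(map_eq_zero_iff _ (germ_injective_of_isIntegral X _ (genericPoint_mem hxA))).1 h2, map_zero]
  · refine Or.inr ?_
    rw [show f = 0 from sec_eq hX _ _ fun hη => by rw [val_zero]; exact h2, germM_zero]

theorem exists_unit_near_generic :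
    ∃ (W : X.Opens) (hη : genericPoint X ∈ W) (e : Γ(divMod D hX, W)), val hX hη e = 1 ∧
      Function.Bijective fun c : X.presheaf.stalk (genericPoint X) =>
        c • germM (divMod D hX) W (genericPoint X) hη e := by
  obtain ⟨W, hη, hW⟩ := exists_nhd_finite_avoid hD (genericPoint X) (Or.inr rfl)
    {y : X | Order.coheight y = 1 ∧ D y < 0}
    (fun V => (finite_neg D hD V).subset fun y hy => ⟨hy.2, hy.1.2.ne⟩)
    (fun y hy => ⟨hy.1, fun h => by
      obtain ⟨V, hV⟩ := exists_affine_mem y
      haveI : Nonempty V.1 := ⟨⟨y, hV⟩⟩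
      subst h
      have h0 : ringKrullDim (X.presheaf.stalk (genericPoint X)) = 0 :=
        ringKrullDim_eq_zero_of_isField (Field.toIsField X.functionField)
      rw [ringKrullDim_stalk_eq_coheight, hy.1] at h0
      exact one_ne_zero h0⟩)
  obtain ⟨e, he⟩ := exists_sec (D := D) hX W 1 fun x hx hc => Or.inr (by
    rw [ord_one' hc]
    have : 0 ≤ D x := not_lt.1 fun h => hW x hx ⟨hc, h⟩
    omega)
  refine ⟨W, hη, e, he hη, fun a b h => ?_, fun z => ?_⟩
  · obtain ⟨A, hA, a₀, rfl⟩ := TopCat.Presheaf.exists_germ_eq X.presheaf a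
    obtain ⟨B, hB, b₀, rfl⟩ := TopCat.Presheaf.exists_germ_eq X.presheaf b
    let W' : X.Opens := A ⊓ B ⊓ W
    have h' : genericPoint X ∈ W' := ⟨⟨hA, hB⟩, hη⟩
    dsimp only at h
    rw [← germ_resO (inf_le_left.trans inf_le_left : W' ≤ A) h' a₀,
      ← germ_resO (inf_le_left.trans inf_le_right : W' ≤ B) h' b₀,
      ← germM_res (inf_le_right : W' ≤ W) h' e, ← germM_smul, ← germM_smul] at h
    obtain ⟨O, hO, i, j, hij⟩ := TopCat.Presheaf.germ_eq (divMod D hX).presheaf _ h' h' _ _ h
    have h1 : val hX hO (res (divMod D hX) i.le _) = val hX hO (res (divMod D hX) j.le _) :=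
      congrArg (val hX hO) hij
    rw [val_res, val_res, val_smul, val_smul, val_res, he, mul_one, mul_one, germ_resO, germ_resO] at h1
    exact h1
  · obtain ⟨U, hU, f, rfl⟩ := germM_exist z
    obtain ⟨A, hA, a₀, hφ⟩ := TopCat.Presheaf.exists_germ_eq X.presheaf
      (val hX hU f : X.presheaf.stalk (genericPoint X))
    let W' : X.Opens := A ⊓ U ⊓ W
    have h' : genericPoint X ∈ W' := ⟨⟨hA, hU⟩, hη⟩
    refine ⟨X.presheaf.germ A _ hA a₀, ?_⟩
    show X.presheaf.germ A _ hA a₀ • germM _ W _ hη e = germM _ U _ hU f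
    rw [← germ_resO (inf_le_left.trans inf_le_left : W' ≤ A) h' a₀,
      ← germM_res (inf_le_right : W' ≤ W) h' e, ← germM_smul,
      ← germM_res (inf_le_left.trans inf_le_right : W' ≤ U) h' f]
    refine congrArg _ (sec_eq hX _ _ fun _ => ?_)
    rw [val_smul, val_res, val_res, he, mul_one, germ_resO]
    exact hφ

theorem isRef1_divMod : RefHull.IsRef1 (divMod D hX) := by
  have hF := isCoh_divMod hX hD
  haveI : (divMod D hX).IsFiniteType := hF.2
  obtain ⟨W₀, hη₀, e, -, hbij⟩ := exists_unit_near_generic hX hD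
  refine isRef1_of_framed hF ?_ (framed_of_isGen hF _ hbij)
  haveI := fun x : X => finite_stalk_of_isFiniteType (M := divMod D hX) x
  obtain ⟨U, hU, hfree⟩ := exists_big_open_finLocFree hX hF (torsionFree_divMod hX hD)
  refine isReflexive_stalks_of_depth _ hF fun x => ?_
  by_cases hx : x ∈ U
  · haveI : Module.Free (X.presheaf.stalk x) ((divMod D hX).presheaf.stalk x) :=
      free_stalk_of_finLocFree_restrict U hfree ⟨x, hx⟩
    exact Or.inl inferInstance
  refine Or.inr ⟨two_le_depth_of_res_bijective _ hF U (fun V => ?_) x hx,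
    ne_genericPoint_of_two_le_dim (hU x hx)⟩
  have hηU : genericPoint X ∈ U := by
    by_contra h
    exact ne_genericPoint_of_two_le_dim (hU _ h) rfl
  refine ⟨fun f g h => sec_eq hX _ _ fun hη => ?_, fun g => ?_⟩
  · exact congrArg (val hX (show genericPoint X ∈ V ⊓ U from ⟨hη, hηU⟩)) h
  · by_cases hη : genericPoint X ∈ V
    swap
    · exact ⟨0, sec_eq hX _ _ fun h => absurd h.1 hη⟩
    obtain ⟨f, hf⟩ := exists_sec hX V (val hX (show genericPoint X ∈ V ⊓ U from ⟨hη, hηU⟩) g)
      fun y hy hc => val_ge hX _ g ⟨hy, by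
        by_contra hyU
        have h2 := hU y hyU
        rw [ringKrullDim_stalk_eq_coheight, hc] at h2
        exact absurd h2 (by norm_num)⟩ hc
    exact ⟨f, sec_eq hX _ _ fun h => by rw [val_res, hf]⟩

/-- Every Weil divisor is the divisor of a rational section of a rank one reflexive module. -/
theorem exists_section_divisor :
    ∃ s : (divMod D hX).presheaf.stalk (genericPoint X), s ≠ 0 ∧
      ∀ x : X, Order.coheight x = 1 → sord (divMod D hX) x s = D x := by
  obtain ⟨W₀, hη₀, e₁, he₁, hbij⟩ := exists_unit_near_generic hX hD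
  refine ⟨germM (divMod D hX) W₀ (genericPoint X) hη₀ e₁, fun h0 => one_ne_zero (α := X.functionField)
    (hbij.1 (a₁ := (1 : X.presheaf.stalk (genericPoint X))) (a₂ := 0) (by simp [h0])), fun x hc => ?_⟩
  obtain ⟨W, hx, e, he⟩ := framed_of_isRef1 hX (isRef1_divMod hX hD) (Or.inr hc)
  have hηW := genericPoint_mem hx
  let ψ := val hX hηW e
  have hψ : ψ ≠ 0 := fun h0 => germM_ne_zero he hηW (by
    rw [show e = 0 from sec_eq hX _ _ fun _ => h0.trans (val_zero hX _).symm, germM_zero])
  -- a section of the smallest order near the point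
  obtain ⟨φ, hφ, hφx⟩ := exists_ord_eq hX hc (-D x)
  obtain ⟨W', hxW', hW'⟩ := exists_nhd_finite_avoid hD x (Or.inl hc)
    {y : X | Order.coheight y = 1 ∧ Scheme.ord φ y < -D y ∧ y ≠ x}
    (fun V => by
      by_cases hV : Nonempty V.1
      swap
      · exact Set.Finite.subset Set.finite_empty fun y hy => absurd ⟨⟨y, hy.2⟩⟩ hV
      refine ((finite_neg D hD V).union (finite_ord_ne_zero_inter_affine V φ hφ)).subset ?_
      rintro y ⟨⟨h1, h2, -⟩, hyV⟩
      by_cases h0 : D y = 0
      · exact Or.inr ⟨hyV, h1, by omega⟩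
      · exact Or.inl ⟨hyV, h0⟩)
    (fun y hy => ⟨hy.1, hy.2.2⟩)
  obtain ⟨f, hf⟩ := exists_sec hX (W ⊓ W') φ fun y hy hy1 => Or.inr (by
    by_cases hyx : y = x
    · rw [hyx, hφx]
    · exact not_lt.1 fun h => hW' y hy.2 ⟨hy1, h, hyx⟩)
  obtain ⟨a, ha⟩ := (he (W ⊓ W') inf_le_left).2 f
  have h1 := congrArg (val hX (show genericPoint X ∈ W ⊓ W' from ⟨hηW, genericPoint_mem hxW'⟩)) ha
  simp only [val_smul] at h1
  rw [show val hX _ (Var76.LineBundle.res (divMod D hX) (inf_le_left : W ⊓ W' ≤ W) e) = ψ from rfl, hf] at h1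
  let α : X.functionField := X.presheaf.germ (W ⊓ W') (genericPoint X) ⟨hηW, genericPoint_mem hxW'⟩ a
  have hα : α ≠ 0 := fun h0 => hφ (by rw [← h1]; exact mul_eq_zero_of_left h0 _)
  have hα0 : 0 ≤ Scheme.ord α x := (mem_range_iff hX hc hα).1 ⟨_, algebraMap_germ (show x ∈ W ⊓ W' from ⟨hx, hxW'⟩) a⟩
  have hψD : Scheme.ord ψ x = -D x := by
    rcases val_ge hX hηW e hx hc with h | h
    · exact absurd h hψ
    · have := congrArg (fun v => Scheme.ord v x) h1
      simp only [show ∀ v w : X.functionField, v ≠ 0 → w ≠ 0 → Scheme.ord (v * w) x = Scheme.ord v x + Scheme.ord w x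
        from fun v w hv hw => Scheme.ord_mul hv hw, hφx] at this
      rw [Scheme.ord_mul hα hψ] at this
      have h' : -D x ≤ Scheme.ord ψ x := h
      omega
  obtain ⟨q, hq⟩ := eq_smul_frame he hηW (germM (divMod D hX) W₀ (genericPoint X) hη₀ e₁)
  -- the coordinate of the unit section
  obtain ⟨A, hA, q₀, rfl⟩ := TopCat.Presheaf.exists_germ_eq X.presheaf q
  let O : X.Opens := A ⊓ W ⊓ W₀
  have hO : genericPoint X ∈ O := ⟨⟨hA, hηW⟩, hη₀⟩
  rw [← germ_resO (inf_le_left.trans inf_le_left : O ≤ A) hO q₀,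
    ← germM_res (inf_le_left.trans inf_le_right : O ≤ W) hO e,
    ← germM_res (inf_le_right : O ≤ W₀) hO e₁, ← germM_smul] at hq
  obtain ⟨O', hO', i, j, hij⟩ := TopCat.Presheaf.germ_eq (divMod D hX).presheaf _ hO hO _ _ hq
  have h2 : val hX hO' (res (divMod D hX) i.le _) = val hX hO' (res (divMod D hX) j.le _) :=
    congrArg (val hX hO') hij
  simp only [val_res, val_smul, germ_resO] at h2
  rw [show val hX _ e₁ = 1 from he₁] at h2
  have hq1 : (X.presheaf.germ A (genericPoint X) hA q₀ : X.functionField) = ψ⁻¹ :=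
    eq_inv_of_mul_eq_one_left h2.symm
  obtain ⟨q, hq⟩ := eq_smul_frame he hηW (germM (divMod D hX) W₀ (genericPoint X) hη₀ e₁)
  have hqq : q = X.presheaf.germ A (genericPoint X) hA q₀ := by
    refine (isGen_germM he hηW).1 ?_
    show q • _ = X.presheaf.germ A (genericPoint X) hA q₀ • _
    rw [← hq, ← germ_resO (inf_le_left.trans inf_le_left : O ≤ A) hO q₀,
      ← germM_res (inf_le_left.trans inf_le_right : O ≤ W) hO e,
      ← germM_res (inf_le_right : O ≤ W₀) hO e₁, ← germM_smul]
    exact TopCat.Presheaf.germ_ext (divMod D hX).presheaf O' hO' i j hij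
  rw [hq, hqq, show (X.presheaf.germ A (genericPoint X) hA q₀ : X.presheaf.stalk (genericPoint X)) =
    (ψ⁻¹ : X.functionField) from hq1]
  refine (sord_frame he hηW hx hc ψ⁻¹ (inv_ne_zero hψ)).trans ?_
  rw [ord_inv ψ hψ, hψD, neg_neg]

end Groth.Agent.Div89.Ref1
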