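import Groth.Agent.Cyc90.IntegralOrd
import Groth.Agent.Cyc90.SecDiv
import Groth.Agent.Div89.Reflexive
import Groth.Agent.Div89.RefIso
import Mathlib.AlgebraicGeometry.OrderOfVanishing
import Groth.Prelude.Def_C1

/-! Orders at codimension one points of a normal scheme and orders of rational sections. -/

set_option autoImplicit false
set_option linter.style.haveILetI false
set_option backward.isDefEq.respectTransparency.types false

noncomputable section

universe u

open CategoryTheory AlgebraicGeometry TopologicalSpace IsLocalRing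
open Groth.Agent.QC70

namespace Groth.Agent.Div89.Ref1

variable {X : Scheme.{u}} [IsIntegral X]

/-- The localization map from a stalk to the generic stalk of a module. -/
def toη (F : X.Modules) (x : X) : F.presheaf.stalk x →+ F.presheaf.stalk (genericPoint X) :=
  (F.presheaf.stalkSpecializes ((genericPoint_spec X).specializes (Set.mem_univ x))).hom

lemma toη_smul (F : X.Modules) (x : X) (a : X.presheaf.stalk x) (t : F.presheaf.stalk x) :
    toη F x (a • t) =
      (algebraMap (X.presheaf.stalk x) X.functionField a : X.presheaf.stalk (genericPoint X)) • toη F x t :=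
  Cyc90.stalkSpecializes_smul F _ a t

lemma toη_germ (F : X.Modules) {W : X.Opens} (x : X) (hx : x ∈ W) (s : Γ(F, W)) :
    toη F x (germM F W x hx s) =
      germM F W (genericPoint X) (((genericPoint_spec X).specializes trivial).mem_open W.2 hx) s :=
  TopCat.Presheaf.germ_stalkSpecializes_apply F.presheaf hx _ s

lemma maximalIdeal_generic : maximalIdeal (X.presheaf.stalk (genericPoint X)) = ⊥ :=
  IsLocalRing.isField_iff_maximalIdeal_eq.1 (Field.toIsField X.functionField)

/-- The fibre at the generic point is the generic stalk. -/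
lemma secFibre_mk_bijective (F : X.Modules) :
    Function.Bijective (Submodule.Quotient.mk :
      F.presheaf.stalk (genericPoint X) → Cyc.secFibre F (genericPoint X)) := by
  refine ⟨fun a b h => ?_, Submodule.Quotient.mk_surjective _⟩
  have h0 := (Submodule.Quotient.eq _).1 h
  rw [maximalIdeal_generic, Submodule.bot_smul, Submodule.mem_bot, sub_eq_zero] at h0
  exact h0

/-- The order of a rational section along a point. -/
def sord (F : X.Modules) (x : X) (v : F.presheaf.stalk (genericPoint X)) : ℤ :=
  Cyc.secOrdAt F (genericPoint X) x ((genericPoint_spec X).specializes (Set.mem_univ x))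
    (Submodule.Quotient.mk v)

variable [IsLocallyNoetherian X]

lemma isDVR (hX : Pi1.IsNormalScheme X) {x : X} (hc : Order.coheight x = 1) :
    IsDiscreteValuationRing (X.presheaf.stalk x) := by
  haveI := (hX x).2
  have hd : ringKrullDim (X.presheaf.stalk x) = 1 := by
    rw [ringKrullDim_stalk_eq_coheight, hc]; rfl
  haveI := CAlg1.regular_of_isIntegrallyClosed_dim_le_one _ hd.le
  haveI := FlatMor68.DedekindFlat.isPrincipalIdealRing_of_regular (X.presheaf.stalk x) hd.le
  refine { not_a_field' := fun h => ?_ }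
  have h0 : ringKrullDim (X.presheaf.stalk x) = 0 :=
    ringKrullDim_eq_zero_of_isField (IsLocalRing.isField_iff_maximalIdeal_eq.2 h)
  rw [hd] at h0
  exact absurd h0 one_ne_zero

/-- A rational function is regular at a codimension one point iff its order is nonnegative. -/
theorem mem_range_iff (hX : Pi1.IsNormalScheme X) {x : X} (hc : Order.coheight x = 1)
    {φ : X.functionField} (hφ : φ ≠ 0) :
    (∃ a, algebraMap (X.presheaf.stalk x) X.functionField a = φ) ↔ 0 ≤ Scheme.ord φ x := by
  haveI := isDVR hX hc
  haveI : Ring.KrullDimLE 1 (X.presheaf.stalk x) := krullDimLE_of_coheight_le hc.le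
  have key : ∀ a : X.presheaf.stalk x, ∀ h : algebraMap (X.presheaf.stalk x) X.functionField a ≠ 0,
      0 ≤ Scheme.ord (algebraMap (X.presheaf.stalk x) X.functionField a) x := fun a h => by
    rw [Scheme.le_ord_iff hc h]
    refine le_trans (le_of_eq ?_) (Ring.ordFrac_ge_one_of_ne_zero (R := X.presheaf.stalk x)
      (x := a) fun h0 => h (by rw [h0, map_zero]))
    rfl
  refine ⟨fun ⟨a, ha⟩ => ha ▸ key a (ha ▸ hφ), fun h0 => ?_⟩
  rcases ValuationRing.isInteger_or_isInteger (X.presheaf.stalk x) φ with ⟨a, ha⟩ | ⟨a, ha⟩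
  · exact ⟨a, ha⟩
  · by_cases hu : IsUnit a
    · obtain ⟨v, rfl⟩ := hu
      refine ⟨((v⁻¹ : (X.presheaf.stalk x)ˣ) : X.presheaf.stalk x), ?_⟩
      rw [map_units_inv, ha, inv_inv]
    · exfalso
      have hne : algebraMap (X.presheaf.stalk x) X.functionField a ≠ 0 := by rw [ha]; exact inv_ne_zero hφ
      have h1 := key a hne
      have h2 : Scheme.ord (algebraMap (X.presheaf.stalk x) X.functionField a) x ≠ 0 := fun h2 => by
        rw [Scheme.ord_eq_iff hc hne] at h2
        exact hu (Ring.isUnit_iff_ordFrac_one_of_isDiscreteValuationRing.2 (h2.trans rfl))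
      have h3 := Scheme.ord_mul (x := x) hφ hne
      rw [ha, mul_inv_cancel₀ hφ] at h3
      have h4 : Scheme.ord (1 : X.functionField) x = 0 :=
        (Scheme.ord_eq_iff hc one_ne_zero).2 ((map_one _).trans rfl)
      rw [h4, ← ha] at h3
      omega

lemma ord_algebraMap_of_isUnit {x : X} (hc : Order.coheight x = 1) {a : X.presheaf.stalk x} (ha : IsUnit a) :
    Scheme.ord (algebraMap (X.presheaf.stalk x) X.functionField a) x = 0 := by
  haveI : Ring.KrullDimLE 1 (X.presheaf.stalk x) := krullDimLE_of_coheight_le hc.le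
  exact (Scheme.ord_eq_iff hc ((ha.map (algebraMap (X.presheaf.stalk x) X.functionField)).ne_zero)).2
    ((Ring.ordFrac_of_isUnit ha).trans rfl)

lemma ord_inv (φ : X.functionField) (hφ : φ ≠ 0) (x : X) : Scheme.ord φ⁻¹ x = - Scheme.ord φ x := by
  by_cases hc : Order.coheight x = 1
  · have h3 := Scheme.ord_mul (x := x) hφ (inv_ne_zero hφ)
    have h4 : Scheme.ord (1 : X.functionField) x = 0 :=
      (Scheme.ord_eq_iff hc one_ne_zero).2 ((map_one _).trans rfl)
    rw [mul_inv_cancel₀ hφ, h4] at h3
    omega
  · simp [hc]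

lemma exists_ord_eq (hX : Pi1.IsNormalScheme X) {x : X} (hc : Order.coheight x = 1) (n : ℤ) :
    ∃ φ : X.functionField, φ ≠ 0 ∧ Scheme.ord φ x = n := by
  haveI := isDVR hX hc
  haveI : Ring.KrullDimLE 1 (X.presheaf.stalk x) := krullDimLE_of_coheight_le hc.le
  obtain ⟨ϖ, hϖ⟩ := IsDiscreteValuationRing.exists_irreducible (X.presheaf.stalk x)
  let p : X.functionField := algebraMap (X.presheaf.stalk x) X.functionField ϖ
  have hp : p ≠ 0 := (map_ne_zero_iff _ (IsFractionRing.injective _ _)).2 hϖ.ne_zero
  refine ⟨p ^ n, zpow_ne_zero _ hp, (Scheme.ord_eq_iff hc (zpow_ne_zero _ hp)).2 ?_⟩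
  rw [map_zpow₀]
  erw [Ring.ordFrac_irreducible hϖ]
  rw [← WithZero.exp_zsmul]
  simp [WithZero.exp]

/-- `Cyc.ordAt` at the generic point is the order of vanishing. -/
lemma ordAt_residue {x : X} (hc : Order.coheight x = 1) (φ : X.functionField) (hφ : φ ≠ 0) :
    Cyc.ordAt x (genericPoint X) ((genericPoint_spec X).specializes (Set.mem_univ x))
      (X.residue (genericPoint X) φ) = Scheme.ord φ x := by
  haveI : Ring.KrullDimLE 1 (X.presheaf.stalk x) := krullDimLE_of_coheight_le hc.le
  letI := (Cyc.specMap x (genericPoint X) (Cyc90.gen_specializes x)).toAlgebra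
  haveI := Cyc90.isFractionRing_specMap x
  let ρ : X.functionField →+* X.residueField (genericPoint X) := (X.residue (genericPoint X)).hom
  have hd : ringKrullDim (X.presheaf.stalk x) ≤ 1 := by
    rw [ringKrullDim_stalk_eq_coheight, hc]; rfl
  refine (Cyc90.ordAt_generic x hd (ρ φ) ((map_ne_zero ρ).2 hφ)).trans ?_
  refine (Cyc90.ordFrac_congr (RingEquiv.refl (X.presheaf.stalk x)) ρ (fun a => rfl) φ hφ).trans ?_
  rw [CycAlg.ordFrac, dif_pos ⟨inferInstance, inferInstance, inferInstance, inferInstance⟩,
    Scheme.ord_eq_ordHom_of_coheight_eq_one hc]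
  have h : X.ordHom x hc φ = Ring.ordFrac (X.presheaf.stalk x) φ := rfl
  rw [h]
  generalize Ring.ordFrac (X.presheaf.stalk x) φ = z
  induction z using WithZero.recZeroCoe with
  | zero => rfl
  | coe w => rfl

/-- The order of a section read off on a generator of the stalk. -/
theorem sord_eq (F : X.Modules) {x : X} (hc : Order.coheight x = 1) (t : F.presheaf.stalk x)
    (ht : Submodule.span (X.presheaf.stalk x) {t} = ⊤) (hτ : toη F x t ≠ 0)
    (φ : X.functionField) (hφ : φ ≠ 0) :
    sord F x ((φ : X.presheaf.stalk (genericPoint X)) • toη F x t) = Scheme.ord φ x := by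
  have hsp := (genericPoint_spec X).specializes (Set.mem_univ x)
  have hex : ∃ t' : F.presheaf.stalk x, Submodule.span (X.presheaf.stalk x) {t'} = ⊤ := ⟨t, ht⟩
  rw [sord, Cyc.secOrdAt, dif_pos hex]
  set t₀ := Classical.choose hex with ht₀
  have ht₀s : Submodule.span (X.presheaf.stalk x) {t₀} = ⊤ := Classical.choose_spec hex
  obtain ⟨a, ha⟩ := Submodule.mem_span_singleton.1
    (show t ∈ Submodule.span (X.presheaf.stalk x) {t₀} from ht₀s ▸ Submodule.mem_top)
  obtain ⟨b, hb⟩ := Submodule.mem_span_singleton.1
    (show t₀ ∈ Submodule.span (X.presheaf.stalk x) {t} from ht ▸ Submodule.mem_top)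
  have hau : IsUnit a := by
    by_contra hna
    have h1 : (1 - b * a) • t₀ = 0 := by rw [sub_smul, one_smul, mul_smul, ha, hb, sub_self]
    have hu : IsUnit (1 - b * a) :=
      IsLocalRing.isUnit_one_sub_self_of_mem_nonunits _ fun hh => hna (isUnit_of_mul_isUnit_right hh)
    exact hτ (by rw [← ha, hu.smul_eq_zero.1 h1, smul_zero, map_zero])
  let aK : X.functionField := algebraMap (X.presheaf.stalk x) X.functionField a
  have hτt : toη F x t = (aK : X.presheaf.stalk (genericPoint X)) • toη F x t₀ := by
    rw [← ha, toη_smul]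
  have hs' : (Submodule.Quotient.mk ((φ : X.presheaf.stalk (genericPoint X)) • toη F x t) :
      Cyc.secFibre F (genericPoint X)) =
      (φ * aK : X.presheaf.stalk (genericPoint X)) •
        (Submodule.Quotient.mk (toη F x t₀) : Cyc.secFibre F (genericPoint X)) := by
    rw [hτt, ← mul_smul, Submodule.Quotient.mk_smul]
  have hex2 : ∃ ψ : X.presheaf.stalk (genericPoint X),
      (Submodule.Quotient.mk ((φ : X.presheaf.stalk (genericPoint X)) • toη F x t) :
        Cyc.secFibre F (genericPoint X)) =
      ψ • (Submodule.Quotient.mk ((F.presheaf.stalkSpecializes hsp) t₀) : Cyc.secFibre F (genericPoint X)) :=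
    ⟨_, hs'⟩
  rw [dif_pos hex2]
  have hv : (Submodule.Quotient.mk (toη F x t₀) : Cyc.secFibre F (genericPoint X)) ≠ 0 := fun h0 => by
    have h1 := (secFibre_mk_bijective F).1 (h0.trans (Submodule.Quotient.mk_zero _).symm)
    exact hτ (by rw [hτt, h1, smul_zero])
  have haK : aK ≠ 0 := (hau.map (algebraMap (X.presheaf.stalk x) X.functionField)).ne_zero
  refine (congrArg (Cyc.ordAt x (genericPoint X) hsp) (Cyc90.residue_eq_of_smul_eq F
    ((Classical.choose_spec hex2).symm.trans hs') hv)).trans ?_
  refine (ordAt_residue hc (φ * aK) (mul_ne_zero hφ haK)).trans ?_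
  rw [Scheme.ord_mul hφ haK, ord_algebraMap_of_isUnit hc hau, add_zero]

end Groth.Agent.Div89.Ref1
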