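import Groth.Agent.Div89.Ref1.Sections
import Groth.Agent.Mero90.Frames
import Groth.Agent.Mero90.OfMero
import Groth.Agent.Div89.FreeStalks
import Groth.Agent.FBase64.RestrictStalk
import Groth.Agent.Amp73.Tensor

/-! Frames in codimension one, orders of rational sections, rank one reflexive modules. -/

set_option autoImplicit false
set_option linter.style.haveILetI false
set_option backward.isDefEq.respectTransparency.types false

noncomputable section

universe u

open CategoryTheory AlgebraicGeometry TopologicalSpace IsLocalRing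
open Groth.Agent.QC70 Groth.Agent.Props58.LocFree

namespace Groth.Agent.Div89.Ref1

variable {X : Scheme.{u}}

/-- There is a frame of `F` near `x`. -/
def Framed (F : X.Modules) (x : X) : Prop :=
  ∃ (W : X.Opens) (_ : x ∈ W) (e : Γ(F, W)), Var76.LineBundle.IsFrame F W e

lemma framed_of_isInvertible {L : X.Modules} (hL : PicF.IsInvertible L) (x : X) : Framed L x := by
  obtain ⟨U, hx, e, he⟩ := Mero90.exists_frame' hL x
  exact ⟨U, hx, e, he⟩

lemma isGen_germM {F : X.Modules} {W : X.Opens} {e : Γ(F, W)} (he : Var76.LineBundle.IsFrame F W e)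
    {x : X} (hx : x ∈ W) :
    Function.Bijective fun c : X.presheaf.stalk x => c • germM F W x hx e :=
  Mero90.isGen_germ he ⟨x, hx⟩

lemma span_germM_eq_top {F : X.Modules} {W : X.Opens} {e : Γ(F, W)} (he : Var76.LineBundle.IsFrame F W e)
    {x : X} (hx : x ∈ W) : Submodule.span (X.presheaf.stalk x) {germM F W x hx e} = ⊤ :=
  eq_top_iff.2 fun v _ => Submodule.mem_span_singleton.2 ((isGen_germM he hx).2 v)

lemma germM_ne_zero {F : X.Modules} {W : X.Opens} {e : Γ(F, W)} (he : Var76.LineBundle.IsFrame F W e)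
    {x : X} (hx : x ∈ W) : germM F W x hx e ≠ 0 := fun h => by
  refine one_ne_zero ((isGen_germM he hx).1 (a₁ := (1 : X.presheaf.stalk x)) (a₂ := 0) ?_)
  simp [h]

lemma free_of_framed {F : X.Modules} {x : X} (h : Framed F x) :
    Module.Free (X.presheaf.stalk x) (F.presheaf.stalk x) := by
  obtain ⟨W, hx, e, he⟩ := h
  exact Module.Free.of_equiv (LinearEquiv.ofBijective
    (LinearMap.toSpanSingleton (X.presheaf.stalk x) _ (germM F W x hx e)) (isGen_germM he hx))

section Irred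

variable [IsIntegral X]

lemma eq_smul_frame {F : X.Modules} {W : X.Opens} {e : Γ(F, W)} (he : Var76.LineBundle.IsFrame F W e)
    (hη : genericPoint X ∈ W) (v : F.presheaf.stalk (genericPoint X)) :
    ∃ φ : X.presheaf.stalk (genericPoint X), v = φ • germM F W (genericPoint X) hη e :=
  ((isGen_germM he hη).2 v).imp fun _ h => h.symm

lemma stalkMapₗ_toη {F G : X.Modules} (ψ : F ⟶ G) (x : X) (z : F.presheaf.stalk x) :
    RefHull.stalkMapₗ ψ (genericPoint X) (toη F x z) = toη G x (RefHull.stalkMapₗ ψ x z) := by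
  obtain ⟨W, hx, s, rfl⟩ := germM_exist z
  rw [toη_germ]
  refine (RefHull.stalkMapₗ_germ ψ _ _ s).trans ?_
  rw [RefHull.stalkMapₗ_germ]
  exact (toη_germ G x hx _).symm

variable [IsLocallyNoetherian X]

/-- The order of a multiple of a frame. -/
lemma sord_frame {F : X.Modules} {W : X.Opens} {e : Γ(F, W)} (he : Var76.LineBundle.IsFrame F W e)
    (hη : genericPoint X ∈ W) {x : X} (hx : x ∈ W) (hc : Order.coheight x = 1)
    (φ : X.functionField) (hφ : φ ≠ 0) :
    sord F x ((φ : X.presheaf.stalk (genericPoint X)) • germM F W (genericPoint X) hη e) =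
      Scheme.ord φ x := by
  rw [← toη_germ F x hx e]
  refine sord_eq F hc (germM F W x hx e) (span_germM_eq_top he hx) ?_ φ hφ
  rw [toη_germ]
  exact germM_ne_zero he _

lemma exists_coord {F : X.Modules} {x : X} (hF : Framed F x) {v : F.presheaf.stalk (genericPoint X)}
    (hv : v ≠ 0) :
    ∃ (W : X.Opens) (hx : x ∈ W) (e : Γ(F, W)) (_ : Var76.LineBundle.IsFrame F W e) (φ : X.functionField),
      φ ≠ 0 ∧ v = (φ : X.presheaf.stalk (genericPoint X)) • germM F W (genericPoint X) (genericPoint_mem hx) e := by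
  obtain ⟨W, hx, e, he⟩ := hF
  obtain ⟨φ, rfl⟩ := eq_smul_frame he (genericPoint_mem hx) v
  exact ⟨W, hx, e, he, φ, fun h => hv (by
    rw [show φ = (0 : X.presheaf.stalk (genericPoint X)) from h, zero_smul]), rfl⟩

lemma sord_smul {F : X.Modules} {x : X} (hF : Framed F x) (hc : Order.coheight x = 1)
    {v : F.presheaf.stalk (genericPoint X)} (hv : v ≠ 0) (ψ : X.functionField) (hψ : ψ ≠ 0) :
    sord F x ((ψ : X.presheaf.stalk (genericPoint X)) • v) = Scheme.ord ψ x + sord F x v := by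
  obtain ⟨W, hx, e, he, φ, hφ, rfl⟩ := exists_coord hF hv
  rw [sord_frame he (genericPoint_mem hx) hx hc φ hφ, smul_smul]
  exact (sord_frame he (genericPoint_mem hx) hx hc (ψ * φ) (mul_ne_zero hψ hφ)).trans
    (Scheme.ord_mul hψ hφ)

/-- A rational section is regular at a codimension one point iff its order is nonnegative. -/
lemma mem_range_toη_iff (hX : Pi1.IsNormalScheme X) {F : X.Modules} {x : X} (hF : Framed F x)
    (hc : Order.coheight x = 1) {v : F.presheaf.stalk (genericPoint X)} (hv : v ≠ 0) :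
    v ∈ Set.range (toη F x) ↔ 0 ≤ sord F x v := by
  obtain ⟨W, hx, e, he, φ, hφ, rfl⟩ := exists_coord hF hv
  rw [sord_frame he (genericPoint_mem hx) hx hc φ hφ, ← mem_range_iff hX hc hφ]
  constructor
  · rintro ⟨z, hz⟩
    obtain ⟨a, rfl⟩ := (isGen_germM he hx).2 z
    rw [toη_smul, toη_germ] at hz
    exact ⟨a, (isGen_germM he (genericPoint_mem hx)).1 hz⟩
  · rintro ⟨a, ha⟩
    refine ⟨a • germM F W x hx e, ?_⟩
    rw [toη_smul, toη_germ, ha]

/-- A morphism bijective at the point and injective at the generic point keeps orders. -/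
lemma sord_map {F G : X.Modules} (ψ : F ⟶ G) {x : X} (hc : Order.coheight x = 1) (hF : Framed F x)
    (hb : Function.Bijective (RefHull.stalkMapₗ ψ x))
    (hη : Function.Injective (RefHull.stalkMapₗ ψ (genericPoint X)))
    {v : F.presheaf.stalk (genericPoint X)} (hv : v ≠ 0) :
    sord G x (RefHull.stalkMapₗ ψ (genericPoint X) v) = sord F x v := by
  obtain ⟨W, hx, e, he, φ, hφ, rfl⟩ := exists_coord hF hv
  rw [sord_frame he (genericPoint_mem hx) hx hc φ hφ, map_smul, ← toη_germ F x hx e, stalkMapₗ_toη]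
  refine sord_eq G hc _ (eq_top_iff.2 fun z _ => ?_) (fun h0 => ?_) φ hφ
  · obtain ⟨y, rfl⟩ := hb.2 z
    obtain ⟨a, rfl⟩ := (isGen_germM he hx).2 y
    exact Submodule.mem_span_singleton.2 ⟨a, (map_smul _ _ _).symm⟩
  · rw [← stalkMapₗ_toη, ← map_zero (RefHull.stalkMapₗ ψ (genericPoint X)), toη_germ] at h0
    exact germM_ne_zero he _ (hη h0)

omit [IsLocallyNoetherian X] in
/-- Tensors of proportional germs. -/
lemma germ_tm_smul {L M : X.Modules} {U U' : X.Opens} {x : X} (hx : x ∈ U) (hx' : x ∈ U')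
    (m : Γ(L, U)) (n : Γ(M, U)) (m' : Γ(L, U')) (n' : Γ(M, U')) (a b : X.presheaf.stalk x)
    (hm : germM L U x hx m = a • germM L U' x hx' m') (hn : germM M U x hx n = b • germM M U' x hx' n') :
    germM (CohB1.tensorMod L M) U x hx (Amp73.tm L M m n) =
      (a * b) • germM (CohB1.tensorMod L M) U' x hx' (Amp73.tm L M m' n') := by
  obtain ⟨A, hxA, a₀, rfl⟩ := TopCat.Presheaf.exists_germ_eq X.presheaf a
  obtain ⟨B, hxB, b₀, rfl⟩ := TopCat.Presheaf.exists_germ_eq X.presheaf b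
  let W₀ : X.Opens := U ⊓ U' ⊓ (A ⊓ B)
  have hx₀ : x ∈ W₀ := ⟨⟨hx, hx'⟩, hxA, hxB⟩
  have hU : W₀ ≤ U := inf_le_left.trans inf_le_left
  have hU' : W₀ ≤ U' := inf_le_left.trans inf_le_right
  have hA : W₀ ≤ A := inf_le_right.trans inf_le_left
  have hB : W₀ ≤ B := inf_le_right.trans inf_le_right
  rw [← germM_res hU hx₀ m, ← germ_resO hA hx₀ a₀, ← germM_res hU' hx₀ m', ← germM_smul] at hm
  rw [← germM_res hU hx₀ n, ← germ_resO hB hx₀ b₀, ← germM_res hU' hx₀ n', ← germM_smul] at hn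
  obtain ⟨W₁, hx₁, i₁, j₁, e₁⟩ := TopCat.Presheaf.germ_eq L.presheaf x hx₀ hx₀ _ _ hm
  obtain ⟨W₂, hx₂, i₂, j₂, e₂⟩ := TopCat.Presheaf.germ_eq M.presheaf x hx₀ hx₀ _ _ hn
  have e₁' : res L i₁.le (res L hU m) = res L i₁.le (resO X hA a₀ • res L hU' m') := e₁
  have e₂' : res M i₂.le (res M hU n) = res M i₂.le (resO X hB b₀ • res M hU' n') := e₂
  let W₃ := W₁ ⊓ W₂
  have h₁ : W₃ ≤ W₁ := inf_le_left
  have h₂ : W₃ ≤ W₂ := inf_le_right
  have hle : W₃ ≤ W₀ := h₁.trans i₁.le
  have hx₃ : x ∈ W₃ := ⟨hx₁, hx₂⟩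
  have E₁ := congrArg (res L h₁) e₁'
  have E₂ := congrArg (res M h₂) e₂'
  rw [res_res, res_res, res_res, res_smul, resO_resO, res_res] at E₁ E₂
  rw [← germ_resO (hle.trans hA) hx₃ a₀, ← germ_resO (hle.trans hB) hx₃ b₀, ← map_mul,
    ← germM_res (hle.trans hU) hx₃ (Amp73.tm L M m n), ← germM_res (hle.trans hU') hx₃ (Amp73.tm L M m' n'),
    ← germM_smul]
  refine congrArg (germM _ W₃ x hx₃) ?_
  rw [show QC70.res (CohB1.tensorMod L M) (hle.trans hU) (Amp73.tm L M m n) = _ from Amp73.res_tm _ m n,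
    show QC70.res (CohB1.tensorMod L M) (hle.trans hU') (Amp73.tm L M m' n') = _ from Amp73.res_tm _ m' n',
    ← Amp73.tm_smul]
  exact congrArg₂ (Amp73.tm L M) E₁ E₂

/-- A rational section of a tensor product with the sum of the orders. -/
theorem exists_tensor_sord (L M : X.Modules) (hL : Framed L (genericPoint X)) (hM : Framed M (genericPoint X))
    {s : L.presheaf.stalk (genericPoint X)} (hs : s ≠ 0) {t : M.presheaf.stalk (genericPoint X)} (ht : t ≠ 0) :
    ∃ w : (CohB1.tensorMod L M).presheaf.stalk (genericPoint X), w ≠ 0 ∧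
      ∀ x : X, Order.coheight x = 1 → Framed L x → Framed M x →
        Framed (CohB1.tensorMod L M) x ∧ sord (CohB1.tensorMod L M) x w = sord L x s + sord M x t := by
  obtain ⟨W₁, hη₁, e₁, he₁, φ, hφ, rfl⟩ := exists_coord hL hs
  obtain ⟨W₂, hη₂, e₂, he₂, χ, hχ, rfl⟩ := exists_coord hM ht
  let W := W₁ ⊓ W₂
  have hη : genericPoint X ∈ W := ⟨hη₁, hη₂⟩
  let f₁ := Var76.LineBundle.res L (inf_le_left : W ≤ W₁) e₁
  let f₂ := Var76.LineBundle.res M (inf_le_right : W ≤ W₂) e₂
  have hf := Amp73.isFrame_tm (he₁.res (inf_le_left : W ≤ W₁)) (he₂.res (inf_le_right : W ≤ W₂))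
  let τ := germM (CohB1.tensorMod L M) W (genericPoint X) hη (Amp73.tm L M f₁ f₂)
  refine ⟨((φ * χ : X.functionField) : X.presheaf.stalk (genericPoint X)) • τ, fun h0 => ?_, fun x hc hLx hMx => ?_⟩
  · exact mul_ne_zero hφ hχ ((isGen_germM hf hη).1 (h0.trans (zero_smul (X.presheaf.stalk (genericPoint X)) τ).symm))
  obtain ⟨V₁, hx₁, g₁, hg₁⟩ := hLx
  obtain ⟨V₂, hx₂, g₂, hg₂⟩ := hMx
  let V := V₁ ⊓ V₂
  have hx : x ∈ V := ⟨hx₁, hx₂⟩
  have hηV : genericPoint X ∈ V := genericPoint_mem hx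
  have hk₁ := hg₁.res (inf_le_left : V ≤ V₁)
  have hk₂ := hg₂.res (inf_le_right : V ≤ V₂)
  have hT := Amp73.isFrame_tm hk₁ hk₂
  refine ⟨⟨V, hx, _, hT⟩, ?_⟩
  obtain ⟨α, hα⟩ := eq_smul_frame hk₁ hηV (germM L W _ hη f₁)
  obtain ⟨β, hβ⟩ := eq_smul_frame hk₂ hηV (germM M W _ hη f₂)
  have hα0 : (α : X.functionField) ≠ 0 := fun h => germM_ne_zero (he₁.res (inf_le_left : W ≤ W₁)) hη
    (by rw [hα, show α = (0 : X.presheaf.stalk (genericPoint X)) from h, zero_smul])
  have hβ0 : (β : X.functionField) ≠ 0 := fun h => germM_ne_zero (he₂.res (inf_le_right : W ≤ W₂)) hη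
    (by rw [hβ, show β = (0 : X.presheaf.stalk (genericPoint X)) from h, zero_smul])
  have hr₁ : germM L W₁ (genericPoint X) hη₁ e₁ = germM L W _ hη f₁ :=
    (germM_res (M := L) (inf_le_left : W ≤ W₁) hη e₁).symm
  have hr₂ : germM M W₂ (genericPoint X) hη₂ e₂ = germM M W _ hη f₂ :=
    (germM_res (M := M) (inf_le_right : W ≤ W₂) hη e₂).symm
  have hs' : sord L x ((φ : X.presheaf.stalk (genericPoint X)) • germM L W₁ (genericPoint X) hη₁ e₁) =
      Scheme.ord φ x + Scheme.ord (α : X.functionField) x := by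
    rw [hr₁, hα, smul_smul]
    exact (sord_frame hk₁ hηV hx hc (φ * α) (mul_ne_zero hφ hα0)).trans (Scheme.ord_mul hφ hα0)
  have ht' : sord M x ((χ : X.presheaf.stalk (genericPoint X)) • germM M W₂ (genericPoint X) hη₂ e₂) =
      Scheme.ord χ x + Scheme.ord (β : X.functionField) x := by
    rw [hr₂, hβ, smul_smul]
    exact (sord_frame hk₂ hηV hx hc (χ * β) (mul_ne_zero hχ hβ0)).trans (Scheme.ord_mul hχ hβ0)
  rw [hs', ht', show τ = _ from germ_tm_smul hη hηV f₁ f₂ _ _ α β hα hβ, smul_smul]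
  refine (sord_frame hT hηV hx hc ((φ * χ) * (α * β))
    (mul_ne_zero (mul_ne_zero hφ hχ) (mul_ne_zero hα0 hβ0))).trans ?_
  rw [Scheme.ord_mul (mul_ne_zero hφ hχ) (mul_ne_zero hα0 hβ0), Scheme.ord_mul hφ hχ,
    Scheme.ord_mul hα0 hβ0]
  ring

omit [IsLocallyNoetherian X] in
lemma height_one_finite_notMem [IsLocallyNoetherian X] (V : X.affineOpens) (W : X.Opens)
    (hW : genericPoint X ∈ W) : {x : X | x ∈ V.1 ∧ Order.coheight x = 1 ∧ x ∉ W}.Finite := by
  by_cases hV : Nonempty V.1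
  swap
  · exact Set.Finite.subset Set.finite_empty fun x hx => absurd ⟨⟨x, hx.1⟩⟩ hV
  obtain ⟨⟨p, hp⟩⟩ := hV
  have hη : genericPoint X ∈ V.1 := genericPoint_mem hp
  haveI := isNoetherianRing_sections V
  haveI : Nonempty V.1 := ⟨⟨p, hp⟩⟩
  obtain ⟨a, haW, haη⟩ := V.2.exists_basicOpen_le ⟨genericPoint X, hW⟩ hη
  have ha0 : a ≠ 0 := by
    rintro rfl
    rw [Scheme.basicOpen_zero] at haη
    exact haη
  refine Set.Finite.subset (s := Subtype.val '' ({x : V.1 | primeAt V x.1 x.2 ∈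
    (Ideal.span {a}).minimalPrimes})) (Set.Finite.image _ ?_) ?_
  · exact Set.Finite.preimage (f := fun x : V.1 => primeAt V x.1 x.2)
      (fun x _ y _ h => Subtype.ext (primeAt_inj V x.2 y.2 h))
      (Ideal.finite_minimalPrimes_of_isNoetherianRing (R := Γ(X, V.1)) (Ideal.span {a}))
  rintro x ⟨hx, hc, hxW⟩
  refine ⟨⟨x, hx⟩, ?_, rfl⟩
  have hh : (primeAt V x hx).height = 1 := (height_primeAt_eq_coheight V x hx).trans hc
  have hcm : a ∈ primeAt V x hx := by
    by_contra hn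
    exact hxW (haW ((X.mem_basicOpen a x hx).2 ((germ_isUnit_iff V x hx a).2 hn)))
  refine ⟨⟨inferInstance, (Ideal.span_singleton_le_iff_mem _).2 hcm⟩, fun q hq hle => ?_⟩
  haveI := hq.1
  rw [eq_of_le_of_height_eq_one hh hle fun h => ha0 (by simpa [h] using hq.2)]

/-- The divisor of a rational section is locally finite. -/
theorem finite_sord_ne_zero (F : X.Modules) (hF : Framed F (genericPoint X))
    {s : F.presheaf.stalk (genericPoint X)} (hs : s ≠ 0) (V : X.affineOpens) :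
    {x : X | x ∈ V.1 ∧ Order.coheight x = 1 ∧ sord F x s ≠ 0}.Finite := by
  by_cases hV : Nonempty V.1
  swap
  · exact Set.Finite.subset Set.finite_empty fun x hx => absurd ⟨⟨x, hx.1⟩⟩ hV
  obtain ⟨W, hη, e, he, φ, hφ, rfl⟩ := exists_coord hF hs
  refine ((finite_ord_ne_zero_inter_affine V φ hφ).union (height_one_finite_notMem V W hη)).subset ?_
  rintro x ⟨hx, hc, hne⟩
  by_cases hxW : x ∈ W
  · exact Or.inl ⟨hx, hc, by rwa [sord_frame he hη hxW hc φ hφ] at hne⟩
  · exact Or.inr ⟨hx, hc, hxW⟩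

end Irred

end Groth.Agent.Div89.Ref1
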