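import Groth.Agent.Div89.Ref1.Constr
import Groth.Prelude.Def_RefPow

/-! Reflexive powers of a section and the direct image from its isomorphism locus. -/

set_option autoImplicit false
set_option linter.style.haveILetI false
set_option backward.isDefEq.respectTransparency.types false

noncomputable section

universe u

open CategoryTheory AlgebraicGeometry TopologicalSpace IsLocalRing Opposite
open Groth.Agent.QC70 Groth.Agent.Props58.LocFree

namespace Groth.Agent.Div89.Ref1

variable {X : Scheme.{u}} [IsIntegral X] [IsLocallyNoetherian X]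

/-- The tensor of two sections adds their divisors. -/
lemma sord_tm (L M : X.Modules) {U : X.Opens} (hηU : genericPoint X ∈ U) (m : Γ(L, U)) (n : Γ(M, U))
    (hm : germM L U _ hηU m ≠ 0) (hn : germM M U _ hηU n ≠ 0)
    {x : X} (hL : Framed L x) (hM : Framed M x) :
    Framed (CohB1.tensorMod L M) x ∧ germM (CohB1.tensorMod L M) U _ hηU (Amp73.tm L M m n) ≠ 0 ∧
      (Order.coheight x = 1 → sord (CohB1.tensorMod L M) x (germM _ U _ hηU (Amp73.tm L M m n)) =
        sord L x (germM L U _ hηU m) + sord M x (germM M U _ hηU n)) := by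
  obtain ⟨V₁, hx₁, g₁, hg₁⟩ := hL
  obtain ⟨V₂, hx₂, g₂, hg₂⟩ := hM
  let V := V₁ ⊓ V₂
  have hx : x ∈ V := ⟨hx₁, hx₂⟩
  have hηV : genericPoint X ∈ V := genericPoint_mem hx
  have hk₁ := hg₁.res (inf_le_left : V ≤ V₁)
  have hk₂ := hg₂.res (inf_le_right : V ≤ V₂)
  have hT := Amp73.isFrame_tm hk₁ hk₂
  obtain ⟨α, hα⟩ := eq_smul_frame hk₁ hηV (germM L U _ hηU m)
  obtain ⟨β, hβ⟩ := eq_smul_frame hk₂ hηV (germM M U _ hηU n)
  have hα0 : (α : X.functionField) ≠ 0 := fun h => hm
    (by rw [hα, show α = (0 : X.presheaf.stalk (genericPoint X)) from h, zero_smul])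
  have hβ0 : (β : X.functionField) ≠ 0 := fun h => hn
    (by rw [hβ, show β = (0 : X.presheaf.stalk (genericPoint X)) from h, zero_smul])
  have ht := germ_tm_smul hηU hηV m n _ _ α β hα hβ
  refine ⟨⟨V, hx, _, hT⟩, fun h0 => ?_, fun hc => ?_⟩
  · exact mul_ne_zero hα0 hβ0 ((isGen_germM hT hηV).1
      ((ht.symm.trans h0).trans (zero_smul (X.presheaf.stalk (genericPoint X)) _).symm))
  · rw [ht, hα, hβ]
    refine (sord_frame hT hηV hx hc (α * β) (mul_ne_zero hα0 hβ0)).trans ((Scheme.ord_mul hα0 hβ0).trans ?_)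
    exact (congrArg₂ (· + ·) (sord_frame hk₁ hηV hx hc α hα0) (sord_frame hk₂ hηV hx hc β hβ0)).symm

omit [IsLocallyNoetherian X] in
lemma germM_toUnit {V : X.Opens} (hη : genericPoint X ∈ V) (a : Γ(X, V)) :
    germM (Coh.structureModule X) V (genericPoint X) hη (toUnit a) =
      X.presheaf.germ V (genericPoint X) hη a •
        germM (Coh.structureModule X) ⊤ (genericPoint X) trivial (toUnit 1) :=
  germM_toUnit_eq_smul hη a

/-- A rational function regular in codimension one on an open is a section. -/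
lemma exists_function (hX : Pi1.IsNormalScheme X) {V : X.Opens} (hη : genericPoint X ∈ V)
    (φ : X.functionField) (h : φ = 0 ∨ ∀ x ∈ V, Order.coheight x = 1 → 0 ≤ Scheme.ord φ x) :
    ∃ a : Γ(X, V), X.presheaf.germ V (genericPoint X) hη a = φ := by
  by_cases hφ : φ = 0
  · exact ⟨0, by rw [hφ]; exact map_zero _⟩
  let o := germM (Coh.structureModule X) ⊤ (genericPoint X) trivial (toUnit (1 : Γ(X, ⊤)))
  have ho : o ≠ 0 := germM_ne_zero isFrame_unit _
  have hv : (φ : X.presheaf.stalk (genericPoint X)) • o ≠ 0 := fun h0 => hφ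
    ((isGen_germM isFrame_unit (trivial : genericPoint X ∈ (⊤ : X.Opens))).1
      (h0.trans (zero_smul (X.presheaf.stalk (genericPoint X)) o).symm))
  obtain ⟨a, ha⟩ := exists_section hX (Coh.structureModule X) isCoh_structureModule
    (stalks_reflexive isRef1_structureModule) V hη ((φ : X.presheaf.stalk (genericPoint X)) • o) fun x hx hc => by
      have hf : Framed (Coh.structureModule X) x := ⟨⊤, trivial, _, isFrame_unit⟩
      rw [mem_range_toη_iff hX hf hc hv,
        show sord _ x ((φ : X.presheaf.stalk (genericPoint X)) • o) = _ from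
          sord_frame isFrame_unit trivial trivial hc φ hφ]
      exact (h.resolve_left hφ) x hx hc
  refine ⟨(show Γ(X, V) from a), (isGen_germM isFrame_unit (trivial : genericPoint X ∈ (⊤ : X.Opens))).1 ?_⟩
  exact (germM_toUnit hη (show Γ(X, V) from a)).symm.trans ha

section Powers

variable {F : X.Modules} (s : Coh.structureModule X ⟶ F)

/-- The generic germ of a power of a section. -/
def powη (n : ℕ) : (RefPow.refPow F n).presheaf.stalk (genericPoint X) :=
  germM (RefPow.refPow F n) ⊤ (genericPoint X) trivial (SecTwist.val (RefPow.sPow s n) ⊤)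

omit [IsIntegral X] [IsLocallyNoetherian X] in
lemma val_sPow_succ (n : ℕ) (V : X.Opens) :
    SecTwist.val (RefPow.sPow s (n + 1)) V =
      (RefPow.mulBy s n).app V (SecTwist.val (RefPow.sPow s n) V) := rfl

omit [IsLocallyNoetherian X] in
lemma powη_succ (n : ℕ) :
    powη s (n + 1) = RefHull.stalkMapₗ (RefPow.mulBy s n) (genericPoint X) (powη s n) :=
  (RefHull.stalkMapₗ_germ (RefPow.mulBy s n) _ _ _).symm

omit [IsLocallyNoetherian X] in
lemma powη_one : powη s 1 = RefHull.stalkMapₗ s (genericPoint X) (powη s 0) := powη_succ s 0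

omit [IsLocallyNoetherian X] in
lemma powη_zero : powη s 0 = germM (Coh.structureModule X) ⊤ (genericPoint X) trivial (toUnit (1 : Γ(X, ⊤))) :=
  rfl

variable {s}

/-- Reflexive powers are rank one reflexive, and the divisor of the n-th power is n times that of the section. -/
theorem refPow_spec (hX : Pi1.IsNormalScheme X) (hF : RefHull.IsRef1 F)
    (hs : powη s 1 ≠ 0) : ∀ n : ℕ,
    RefHull.IsRef1 (RefPow.refPow F n) ∧ powη s n ≠ 0 ∧
      ∀ x : X, Order.coheight x = 1 → sord (RefPow.refPow F n) x (powη s n) = n * sord F x (powη s 1)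
  | 0 => by
    refine ⟨isRef1_structureModule, germM_ne_zero isFrame_unit _, fun x hc => ?_⟩
    rw [Nat.cast_zero, zero_mul, powη_zero]
    obtain h := sord_frame isFrame_unit (trivial : genericPoint X ∈ (⊤ : X.Opens))
      (trivial : x ∈ (⊤ : X.Opens)) hc (1 : X.functionField) one_ne_zero
    rw [one_smul] at h
    exact h.trans (ord_one' hc)
  | 1 => ⟨hF, hs, fun x _ => by rw [Nat.cast_one, one_mul]; rfl⟩
  | n + 2 => by
    obtain ⟨hR, hne, hord⟩ := refPow_spec hX hF hs (n + 1)
    let G := RefPow.refPow F (n + 1)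
    haveI : G.IsQuasicoherent := hR.1.1
    haveI : G.IsFiniteType := hR.1.2
    haveI : F.IsQuasicoherent := hF.1.1
    haveI : F.IsFiniteType := hF.1.2
    have hT : Coh.IsCoh (CohB1.tensorMod G F) :=
      ⟨QCTens72.isQuasicoherent_tensorMod G F, QCTens72.isFiniteType_tensorMod G F⟩
    have hb : ∀ x, Framed (CohB1.tensorMod G F) x →
        Function.Bijective (RefHull.stalkMapₗ (RefHull.bidualMap (CohB1.tensorMod G F)) x) := fun x hx =>
      bijective_stalk_bidual _ hT x (isReflexiveAt_of_framed hx)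
    have key := fun {x : X} (h : x = genericPoint X ∨ Order.coheight x = 1) =>
      sord_tm G F (U := ⊤) trivial (SecTwist.val (RefPow.sPow s (n + 1)) ⊤)
        (SecTwist.val s ⊤) hne (by
          have h1 : SecTwist.val (RefPow.sPow s 1) ⊤ = SecTwist.val s ⊤ := rfl
          exact h1 ▸ hs) (framed_of_isRef1 hX hR h) (framed_of_isRef1 hX hF h)
    obtain ⟨hfη, hw0, -⟩ := key (Or.inl rfl)
    have he : powη s (n + 2) = RefHull.stalkMapₗ (RefHull.bidualMap (CohB1.tensorMod G F)) (genericPoint X)
        (germM (CohB1.tensorMod G F) ⊤ (genericPoint X) trivial (Amp73.tm G F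
          (SecTwist.val (RefPow.sPow s (n + 1)) ⊤) (SecTwist.val s ⊤))) := by
      rw [RefHull.stalkMapₗ_germ]
      exact congrArg (germM (RefPow.refPow F (n + 2)) ⊤ (genericPoint X) trivial)
        ((val_sPow_succ s (n + 1) ⊤).trans (RefPow.mulBy_succ_app s n ⊤ _))
    refine ⟨(exists_refTensor hX hR hF hne hs).1, fun h0 => hw0 ((hb _ hfη).1 ((he.symm.trans h0).trans
      (map_zero _).symm)), fun x hc => ?_⟩
    obtain ⟨hfx, -, hsum⟩ := key (Or.inr hc)
    rw [he]
    refine (sord_map _ hc hfx (hb x hfx) (hb _ hfη).1 hw0).trans ((hsum hc).trans ?_)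
    refine (congrArg₂ (· + ·) (hord x hc) (rfl : sord F x (powη s 1) = _)).trans ?_
    show ((n + 1 : ℕ) : ℤ) * _ + _ = _
    push_cast
    ring

variable {U : X.Opens} (hU : (U : Set X) = RefPow.isoLocus s)

include hU in
omit [IsIntegral X] [IsLocallyNoetherian X] in
lemma mem_locus_iff (x : X) : x ∈ U ↔ Function.Bijective (RefHull.stalkMapₗ s x) := by
  rw [← SetLike.mem_coe, hU]; exact Iff.rfl

include hU in
lemma powη_one_ne_zero (hη : genericPoint X ∈ U) : powη s 1 ≠ 0 := by
  rw [powη_one, powη_zero]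
  intro h
  exact germM_ne_zero isFrame_unit _ (((mem_locus_iff hU _).1 hη).1 (h.trans (map_zero _).symm))

variable (hX : Pi1.IsNormalScheme X) (hF : RefHull.IsRef1 F)

include hU in
/-- The divisor of the section vanishes on the locus where it generates. -/
lemma sord_eq_zero_of_mem {x : X} (hc : Order.coheight x = 1) (hx : x ∈ U) : sord F x (powη s 1) = 0 := by
  have hη : genericPoint X ∈ U := genericPoint_mem hx
  rw [powη_one, powη_zero]
  refine (sord_map s hc ⟨⊤, trivial, _, isFrame_unit⟩ ((mem_locus_iff hU x).1 hx)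
    ((mem_locus_iff hU _).1 hη).1 (germM_ne_zero isFrame_unit _)).trans ?_
  have h := sord_frame isFrame_unit (trivial : genericPoint X ∈ (⊤ : X.Opens))
      (trivial : x ∈ (⊤ : X.Opens)) hc (1 : X.functionField) one_ne_zero
  rw [one_smul] at h
  exact h.trans (ord_one' hc)

include hU hX hF in
/-- Off the locus where it generates the section vanishes to positive order. -/
lemma one_le_sord (hη : genericPoint X ∈ U) {x : X} (hc : Order.coheight x = 1) (hx : x ∉ U) :
    1 ≤ sord F x (powη s 1) := by
  obtain ⟨W, hxW, e, he⟩ := framed_of_isRef1 hX hF (Or.inr hc)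
  let o := germM (Coh.structureModule X) ⊤ x trivial (toUnit (1 : Γ(X, ⊤)))
  obtain ⟨a, ha⟩ := (isGen_germM he hxW).2 (RefHull.stalkMapₗ s x o)
  have h1 : powη s 1 = (algebraMap (X.presheaf.stalk x) X.functionField a : X.presheaf.stalk (genericPoint X)) •
      germM F W (genericPoint X) (genericPoint_mem hxW) e := by
    rw [← toη_germ F x hxW e, ← toη_smul]
    refine (powη_one s).trans (Eq.trans ?_ (congrArg (toη F x) ha).symm)
    rw [← stalkMapₗ_toη, toη_germ, powη_zero]
  have ha0 : algebraMap (X.presheaf.stalk x) X.functionField a ≠ 0 := fun h => powη_one_ne_zero hU hη (by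
    rw [h1, show (algebraMap (X.presheaf.stalk x) X.functionField a : X.presheaf.stalk (genericPoint X)) =
      (0 : X.presheaf.stalk (genericPoint X)) from h, zero_smul]; exact rfl)
  rw [h1, sord_frame he (genericPoint_mem hxW) hxW hc _ ha0]
  refine ord_pos hX hc (fun h => ha0 ((congrArg _ h).trans (map_zero _))) fun hu => hx ((mem_locus_iff hU x).2 ?_)
  have hcomp : (fun c : X.presheaf.stalk x => RefHull.stalkMapₗ s x (c • o)) =
      (fun c => c • germM F W x hxW e) ∘ (fun c => c * a) := funext fun c => by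
    rw [map_smul, ← ha, smul_smul]; rfl
  have hb : Function.Bijective (fun c : X.presheaf.stalk x => RefHull.stalkMapₗ s x (c • o)) := by
    rw [hcomp]
    exact (isGen_germM he hxW).comp ⟨fun c d h => hu.mul_left_inj.1 h,
      fun d => ⟨d * hu.unit⁻¹, by simp [mul_assoc]⟩⟩
  exact (Function.Bijective.of_comp_iff _ (isGen_germM isFrame_unit (trivial : x ∈ (⊤ : X.Opens)))).1 hb

end Powers

end Groth.Agent.Div89.Ref1
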