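import Groth.Agent.Div89.Ref1.PowColim
import Groth.Agent.Div89.Stalk

/-! Affineness of the isomorphism locus of a section of a rank one reflexive module. -/

set_option autoImplicit false
set_option linter.style.haveILetI false
set_option backward.isDefEq.respectTransparency.types false

noncomputable section

universe u

open CategoryTheory CategoryTheory.Limits AlgebraicGeometry TopologicalSpace IsLocalRing Opposite
open Groth.Agent.QC70 Groth.Agent.Props58.LocFree

namespace Groth.Agent.Div89.Ref1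

variable {X : Scheme.{u}}

/-- A germ in the maximal ideal times the stalk comes from the prime times the sections, up to a denominator. -/
lemma exists_smul_mem_of_germ_mem (M : X.Modules) (hM : Coh.IsQCoh M) (W : X.affineOpens) {x : X} (hx : x ∈ W.1)
    {z : M.presheaf.stalk x}
    (hz : z ∈ maximalIdeal (X.presheaf.stalk x) • (⊤ : Submodule (X.presheaf.stalk x) (M.presheaf.stalk x))) :
    ∃ (a : Γ(X, W.1)) (t : Γ(M, W.1)), a ∉ primeAt W x hx ∧
      t ∈ primeAt W x hx • (⊤ : Submodule Γ(X, W.1) Γ(M, W.1)) ∧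
      germM M W.1 x hx t = X.presheaf.germ W.1 x hx a • z := by
  refine Submodule.smul_induction_on hz (fun μ hμ ν _ => ?_) ?_
  · letI := stalkAlg W.1 x hx
    haveI := isLocalization_stalk W x hx
    letI := stalkModule M W.1 x hx
    haveI := isLocalizedModule_germLin M hM W x hx
    obtain ⟨⟨c, d⟩, hcd⟩ := IsLocalization.surj (primeAt W x hx).primeCompl μ
    obtain ⟨⟨m, f⟩, hmf⟩ := IsLocalizedModule.surj (primeAt W x hx).primeCompl (germLin M W.1 x hx) ν
    have hc : c ∈ primeAt W x hx := by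
      by_contra h
      refine (mem_maximalIdeal μ).1 hμ (isUnit_of_mul_isUnit_left (y := algebraMap Γ(X, W.1) _ d.1) ?_)
      rw [hcd]
      exact (germ_isUnit_iff W x hx c).2 h
    refine ⟨d.1 * f.1, c • m, (primeAt W x hx).primeCompl.mul_mem d.2 f.2,
      Submodule.smul_mem_smul hc Submodule.mem_top, ?_⟩
    have hmf' : X.presheaf.germ W.1 x hx f.1 • ν = germM M W.1 x hx m := hmf
    have hcd' : μ * X.presheaf.germ W.1 x hx d.1 = X.presheaf.germ W.1 x hx c := hcd
    rw [germM_smul, ← hcd', ← hmf', map_mul, smul_smul, smul_smul]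
    congr 1
    ring
  · rintro z₁ z₂ ⟨a₁, t₁, ha₁, ht₁, e₁⟩ ⟨a₂, t₂, ha₂, ht₂, e₂⟩
    refine ⟨a₁ * a₂, a₂ • t₁ + a₁ • t₂, (primeAt W x hx).primeCompl.mul_mem ha₁ ha₂,
      add_mem (Submodule.smul_mem _ _ ht₁) (Submodule.smul_mem _ _ ht₂), ?_⟩
    rw [germM_add, germM_smul, germM_smul, e₁, e₂, map_mul, smul_add, smul_smul, smul_smul]
    congr 2
    ring

/-- A section in the prime times the sections has germ in the maximal ideal times the stalk. -/
lemma germ_mem_of_mem_smul (M : X.Modules) (W : X.affineOpens) {x : X} (hx : x ∈ W.1) {t : Γ(M, W.1)}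
    (ht : t ∈ primeAt W x hx • (⊤ : Submodule Γ(X, W.1) Γ(M, W.1))) :
    germM M W.1 x hx t ∈
      maximalIdeal (X.presheaf.stalk x) • (⊤ : Submodule (X.presheaf.stalk x) (M.presheaf.stalk x)) := by
  refine Submodule.smul_induction_on ht (fun c hc m _ => ?_) (fun a b ha hb => ?_)
  · rw [germM_smul]
    exact Submodule.smul_mem_smul ((mem_maximalIdeal _).2 fun h => (germ_isUnit_iff W x hx c).1 h hc)
      Submodule.mem_top
  · rw [germM_add]
    exact add_mem ha hb

variable [IsIntegral X] [IsLocallyNoetherian X] {F : X.Modules} {s : Coh.structureModule X ⟶ F} {U : X.Opens}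
  (hX : Pi1.IsNormalScheme X) (hF : RefHull.IsRef1 F) (hU : (U : Set X) = RefPow.isoLocus s)

include hX hF hU in
lemma powη_one_eq_zero (hη : genericPoint X ∉ U) : powη s 1 = 0 := by
  by_contra h
  refine hη ((mem_locus_iff hU _).2 ?_)
  rw [powη_one, powη_zero] at h
  let o := germM (Coh.structureModule X) ⊤ (genericPoint X) trivial (toUnit (1 : Γ(X, ⊤)))
  have hcomp : (fun c : X.presheaf.stalk (genericPoint X) => RefHull.stalkMapₗ s (genericPoint X) (c • o)) =
      fun c => c • RefHull.stalkMapₗ s (genericPoint X) o := funext fun c => map_smul _ _ _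
  exact (Function.Bijective.of_comp_iff _
    (isGen_germM isFrame_unit (trivial : genericPoint X ∈ (⊤ : X.Opens)))).1
      (show Function.Bijective (fun c : X.presheaf.stalk (genericPoint X) =>
        RefHull.stalkMapₗ s (genericPoint X) (c • o)) by
        rw [hcomp]; exact smul_bijective_of_ne_zero (framed_of_isRef1 hX hF (Or.inl rfl)) h)

/-- Restriction of functions to the part in `U`. -/
abbrev rho (U W : X.Opens) : Γ(X, W) →+* Γ(X, inU U W) :=
  (X.presheaf.map (homOfLE (U.ι.image_preimage_le W)).op).hom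

variable (hη : genericPoint X ∈ U)

/-- The function of a section of a reflexive power. -/
def frac (n : ℕ) (W : X.Opens) (t : Γ(RefPow.refPow F n, W)) : Γ(X, inU U W) :=
  pv U W ((leg hη hX hF hU n).app W t)

lemma frac_add (n : ℕ) (W : X.Opens) (t t' : Γ(RefPow.refPow F n, W)) :
    frac hX hF hU hη n W (t + t') = frac hX hF hU hη n W t + frac hX hF hU hη n W t' :=
  (congrArg (pv U W) (map_add _ t t')).trans (pv_add U W _ _)

lemma frac_smul (n : ℕ) (W : X.Opens) (r : Γ(X, W)) (t : Γ(RefPow.refPow F n, W)) :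
    frac hX hF hU hη n W (r • t) = rho U W r * frac hX hF hU hη n W t :=
  (congrArg (pv U W) ((appLinear (leg hη hX hF hU n) W).map_smul r t)).trans (pv_smul U W r _)

lemma frac_injective (n : ℕ) (W : X.Opens) : Function.Injective (frac hX hF hU hη n W) :=
  (pv_bijective U W).1.comp (leg_injective hη hX hF hU n W)

lemma frac_mulBy (n : ℕ) (W : X.Opens) (t : Γ(RefPow.refPow F n, W)) :
    frac hX hF hU hη (n + 1) W ((RefPow.mulBy s n).app W t) = frac hX hF hU hη n W t := by
  refine congrArg (pv U W) ?_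
  exact congrArg (fun ψ : RefPow.refPow F n ⟶ pushO U => ψ.app W t) (mulBy_leg hη hX hF hU n)

lemma frac_val_sPow (n : ℕ) {W : X.Opens} (hW : genericPoint X ∈ W) :
    frac hX hF hU hη n W (SecTwist.val (RefPow.sPow s n) W) = 1 := by
  refine germ_injective_of_isIntegral X (genericPoint X) (mem_inU hη hW) ?_
  rw [map_one]
  obtain ⟨hR, hne, -⟩ := refPow_spec hX hF (powη_one_ne_zero hU hη) n
  refine (smul_bijective_of_ne_zero (framed_of_isRef1 hX hR (Or.inl rfl)) hne).1 ?_
  refine (leg_spec hη hX hF hU n hW (SecTwist.val (RefPow.sPow s n) W)).trans ?_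
  refine Eq.trans ?_ (one_smul (X.presheaf.stalk (genericPoint X)) (powη s n)).symm
  refine Eq.trans ?_ (germM_res (M := RefPow.refPow F n) (le_top : W ≤ ⊤) hW (SecTwist.val (RefPow.sPow s n) ⊤))
  exact congrArg _ (SecTwist.map_val (RefPow.sPow s n) (homOfLE (le_top : W ≤ ⊤))).symm

/-- Being a fraction with numerator in an ideal times the sections of all large powers. -/
def InFrac (W : X.Opens) (I : Ideal Γ(X, W)) (b : Γ(X, inU U W)) : Prop :=
  ∃ n : ℕ, ∀ m, n ≤ m → ∃ t ∈ I • (⊤ : Submodule Γ(X, W) Γ(RefPow.refPow F m, W)), frac hX hF hU hη m W t = b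

lemma inFrac_of (W : X.Opens) (I : Ideal Γ(X, W)) {n : ℕ} {b : Γ(X, inU U W)}
    {t : Γ(RefPow.refPow F n, W)} (ht : t ∈ I • (⊤ : Submodule Γ(X, W) Γ(RefPow.refPow F n, W)))
    (hb : frac hX hF hU hη n W t = b) : InFrac hX hF hU hη W I b := by
  refine ⟨n, fun m hm => ?_⟩
  induction m, hm using Nat.le_induction with
  | base => exact ⟨t, ht, hb⟩
  | succ m _ ih =>
    obtain ⟨t', ht', hb'⟩ := ih
    refine ⟨(RefPow.mulBy s m).app W t', ?_, (frac_mulBy hX hF hU hη m W t').trans hb'⟩
    exact Submodule.smul_induction_on ht'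
      (p := fun z => (RefPow.mulBy s m).app W z ∈ I • (⊤ : Submodule Γ(X, W) Γ(RefPow.refPow F (m + 1), W)))
      (fun c hc z _ => by
        rw [show (RefPow.mulBy s m).app W (c • z) = c • (RefPow.mulBy s m).app W z from
          (appLinear (RefPow.mulBy s m) W).map_smul c z]
        exact Submodule.smul_mem_smul hc Submodule.mem_top)
      (fun a b ha hb => by rw [map_add]; exact add_mem ha hb)

lemma inFrac_of_mem_map {W : X.Opens} (hW : IsAffineOpen W) (I : Ideal Γ(X, W)) {b : Γ(X, inU U W)}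
    (hb : b ∈ I.map (rho U W)) : InFrac hX hF hU hη W I b := by
  suffices H : ∀ r : Γ(X, inU U W), InFrac hX hF hU hη W I (r * b) by simpa using H 1
  refine Submodule.span_induction
    (p := fun y _ => ∀ r : Γ(X, inU U W), InFrac hX hF hU hη W I (r * y)) ?_ ?_ ?_ ?_ hb
  · rintro _ ⟨c, hc, rfl⟩ r
    obtain ⟨z, hz⟩ := (pv_bijective U W).2 r
    obtain ⟨n, t, ht⟩ := leg_surjective hη hX hF hU hW z
    refine inFrac_of hX hF hU hη W I (Submodule.smul_mem_smul hc (Submodule.mem_top (x := t))) ?_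
    rw [frac_smul, frac, ht, hz, mul_comm]
  · intro r
    refine inFrac_of hX hF hU hη W I (n := 0) (zero_mem _) ?_
    rw [mul_zero, frac, map_zero, pv_zero]
  · rintro a b _ _ ha hb r
    obtain ⟨n₁, h₁⟩ := ha r
    obtain ⟨n₂, h₂⟩ := hb r
    refine ⟨max n₁ n₂, fun m hm => ?_⟩
    obtain ⟨t₁, ht₁, e₁⟩ := h₁ m (le_of_max_le_left hm)
    obtain ⟨t₂, ht₂, e₂⟩ := h₂ m (le_of_max_le_right hm)
    exact ⟨t₁ + t₂, add_mem ht₁ ht₂, by rw [frac_add, e₁, e₂, mul_add]⟩
  · intro a b _ hb r
    rw [smul_eq_mul, ← mul_assoc]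
    exact hb (r * a)

omit [IsIntegral X] [IsLocallyNoetherian X] in
lemma mem_inU_iff {W : X.Opens} {x : X} : x ∈ inU U W ↔ x ∈ U ∧ x ∈ W :=
  ⟨fun h => ⟨mem_of_mem_inU h, U.ι.image_preimage_le W h⟩, fun h => mem_inU h.1 h.2⟩

include hX hF hU hη in
/-- Affineness of the locus gives vanishing of a power of the section outside it. -/
theorem exists_pow_mem (hA : IsAffineHom U.ι) {x : X} (hx : x ∉ U) :
    ∃ n : ℕ, 0 < n ∧ RefPow.sPowGerm s n x ∈ maximalIdeal (X.presheaf.stalk x) •
      (⊤ : Submodule (X.presheaf.stalk x) ((RefPow.refPow F n).presheaf.stalk x)) := by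
  obtain ⟨W, hxW⟩ := exists_affine_mem x
  let V : X.affineOpens := ⟨inU U W.1, (U.ι.isAffineOpen_iff_of_isOpenImmersion).2 (hA.isAffine_preimage _ W.2)⟩
  have hmap : (primeAt W x hxW).map (rho U W.1) = ⊤ := by
    by_contra h
    obtain ⟨P, hP, hle⟩ := Ideal.exists_le_maximal _ h
    haveI := hP.isPrime
    obtain ⟨y, hy, hyP⟩ := exists_point V P
    refine hx (mem_affine_of_specializes ((specializes_iff_primeAt_le W (y := x)
      (hx := (mem_inU_iff.1 hy).2) hxW).2 fun c hc => ?_) (mem_inU_iff.1 hy).1)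
    by_contra hn
    have h1 : rho U W.1 c ∈ P := hle (Ideal.mem_map_of_mem _ hc)
    rw [← hyP] at h1
    refine (germ_isUnit_iff V y hy _).1 ?_ h1
    have hu := (germ_isUnit_iff W y (mem_inU_iff.1 hy).2 c).2 hn
    rwa [show X.presheaf.germ V.1 y hy (rho U W.1 c) = X.presheaf.germ W.1 y (mem_inU_iff.1 hy).2 c from
      germ_resO (U.ι.image_preimage_le W.1) hy c]
  obtain ⟨n, hn⟩ := inFrac_of_mem_map hX hF hU hη W.2 (primeAt W x hxW)
    (b := 1) (hmap ▸ Submodule.mem_top)
  obtain ⟨t, ht, hb⟩ := hn (n + 1) (Nat.le_succ n)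
  refine ⟨n + 1, Nat.succ_pos n, ?_⟩
  rw [← frac_val_sPow hX hF hU hη (n + 1) (genericPoint_mem hxW)] at hb
  have hs := germ_mem_of_mem_smul (RefPow.refPow F (n + 1)) W hxW ht
  rw [frac_injective hX hF hU hη (n + 1) W.1 hb] at hs
  refine (congrArg (· ∈ maximalIdeal (X.presheaf.stalk x) •
    (⊤ : Submodule (X.presheaf.stalk x) ((RefPow.refPow F (n + 1)).presheaf.stalk x))) ?_).mp hs
  exact (congrArg _ (SecTwist.map_val (RefPow.sPow s (n + 1)) (homOfLE (le_top : W.1 ≤ ⊤))).symm).trans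
    (germM_res (M := RefPow.refPow F (n + 1)) (le_top : W.1 ≤ ⊤) hxW (SecTwist.val (RefPow.sPow s (n + 1)) ⊤))

include hX hF hU hη in
/-- Vanishing of powers of the section outside the locus gives affineness. -/
theorem isAffineOpen_inU (h : ∀ x : X, x ∉ U → ∃ n : ℕ, 0 < n ∧
      RefPow.sPowGerm s n x ∈ maximalIdeal (X.presheaf.stalk x) •
        (⊤ : Submodule (X.presheaf.stalk x) ((RefPow.refPow F n).presheaf.stalk x)))
    (W : X.affineOpens) : IsAffineOpen (inU U W.1) := by
  refine isAffineOpen_of_isAffineOpen_basicOpen _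
    (rho U W.1 '' {a : Γ(X, W.1) | X.basicOpen a ≤ U}) ?_ ?_
  · by_contra hne
    obtain ⟨P, hP, hle⟩ := Ideal.exists_le_maximal _ hne
    haveI := hP.isPrime
    obtain ⟨y, hy, hyp⟩ := exists_point W (P.comap (rho U W.1))
    by_cases hyU : y ∈ U
    · obtain ⟨a, haU, hay⟩ := W.2.exists_basicOpen_le ⟨y, hyU⟩ hy
      refine (mem_basicOpen_iff_notMem W y hy a).1 hay ?_
      rw [hyp]
      exact hle (Ideal.subset_span ⟨a, haU, rfl⟩)
    obtain ⟨n, -, hn⟩ := h y hyU
    obtain ⟨hR, -, -⟩ := refPow_spec hX hF (powη_one_ne_zero hU hη) n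
    obtain ⟨a, t, ha, ht, e⟩ := exists_smul_mem_of_germ_mem (RefPow.refPow F n) hR.1.1 W hy hn
    have hval : germM (RefPow.refPow F n) W.1 y hy (SecTwist.val (RefPow.sPow s n) W.1) = RefPow.sPowGerm s n y :=
      (congrArg _ (SecTwist.map_val (RefPow.sPow s n) (homOfLE (le_top : W.1 ≤ ⊤))).symm).trans
        (germM_res (M := RefPow.refPow F n) (le_top : W.1 ≤ ⊤) hy (SecTwist.val (RefPow.sPow s n) ⊤))
    rw [← hval, ← germM_smul] at e
    have heq : t = a • SecTwist.val (RefPow.sPow s n) W.1 := by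
      rw [← sub_eq_zero]
      refine eq_zero_of_germ_generic _ hR.1.1 (torsionFree_of_reflexive _ (stalks_reflexive hR))
        (genericPoint_mem hy) _ ?_
      refine (map_sub ((RefPow.refPow F n).presheaf.germ _ _ (genericPoint_mem hy)).hom _ _).trans (sub_eq_zero.2 ?_)
      exact (toη_germ _ y hy t).symm.trans ((congrArg _ e).trans (toη_germ _ y hy _))
    refine ha (hyp.symm ▸ ?_)
    have key : ∀ z ∈ primeAt W y hy • (⊤ : Submodule Γ(X, W.1) Γ(RefPow.refPow F n, W.1)),
        frac hX hF hU hη n W.1 z ∈ P := fun z hz => Submodule.smul_induction_on hz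
      (fun c hc m _ => by
        rw [frac_smul]
        exact P.mul_mem_right _ (by rw [hyp] at hc; exact hc))
      (fun a b ha hb => by rw [frac_add]; exact add_mem ha hb)
    have e' : frac hX hF hU hη n W.1 t = rho U W.1 a := by
      rw [heq]
      refine (frac_smul hX hF hU hη n W.1 a _).trans ?_
      rw [frac_val_sPow hX hF hU hη n (genericPoint_mem hy), mul_one]
    exact Ideal.mem_comap.2 (e' ▸ key t ht)
  · rintro _ ⟨a, ha, rfl⟩
    rw [show rho U W.1 a = X.presheaf.map (homOfLE (U.ι.image_preimage_le W.1)).op a from rfl, Scheme.basicOpen_res,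
      inf_eq_right.2 (fun z hz => mem_inU_iff.2 ⟨ha hz, X.basicOpen_le a hz⟩)]
    exact W.2.basicOpen a

omit hη in
include hX hF hU in
/-- The locus is affine over the base iff some power of the section vanishes at each point outside it. -/
theorem isAffineHom_iff_pow_mem :
    IsAffineHom U.ι ↔ ∀ x : X, x ∉ U → ∃ n : ℕ, 0 < n ∧
      RefPow.sPowGerm s n x ∈ maximalIdeal (X.presheaf.stalk x) •
        (⊤ : Submodule (X.presheaf.stalk x) ((RefPow.refPow F n).presheaf.stalk x)) := by
  by_cases hη : genericPoint X ∈ U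
  · refine ⟨fun hA x hx => exists_pow_mem hX hF hU hη hA hx, fun h => ⟨fun W hW => ?_⟩⟩
    exact (U.ι.isAffineOpen_iff_of_isOpenImmersion).1 (isAffineOpen_inU hX hF hU hη h ⟨W, hW⟩)
  refine iff_of_true ⟨fun W _ => ?_⟩ fun x _ => ⟨1, one_pos, ?_⟩
  · rw [← U.ι.isAffineOpen_iff_of_isOpenImmersion]
    convert isAffineOpen_bot X
    exact eq_bot_iff.2 fun x hx => (hη (genericPoint_mem (mem_of_mem_inU hx))).elim
  · have h0 : RefPow.sPowGerm s 1 x = 0 := by
      refine toη_injective (RefPow.refPow F 1) hF.1.1 (torsionFree_of_reflexive _ (stalks_reflexive hF)) x ?_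
      rw [map_zero]
      exact (toη_germ _ (W := ⊤) x trivial _).trans (powη_one_eq_zero hX hF hU hη)
    rw [h0]
    exact zero_mem _

end Groth.Agent.Div89.Ref1
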