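import Groth.Agent.Div89.Ref1.Pow
import Groth.Agent.QCFilt72.Colim
import Mathlib.CategoryTheory.Category.ULift

/-! The direct image from the isomorphism locus is the colimit of the reflexive powers. -/

set_option autoImplicit false
set_option linter.style.haveILetI false
set_option backward.isDefEq.respectTransparency.types false

noncomputable section

universe u

open CategoryTheory CategoryTheory.Limits AlgebraicGeometry TopologicalSpace IsLocalRing Opposite
open Groth.Agent.QC70 Groth.Agent.Props58.LocFree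

namespace Groth.Agent.Div89.Ref1

variable {X : Scheme.{u}}

/-- The direct image of the structure sheaf of an open. -/
abbrev pushO (U : X.Opens) : X.Modules :=
  (Scheme.Modules.pushforward U.ι).obj ((Coh.structureModule X).restrict U.ι)

/-- The part of `V` in `U`, as the image of its preimage. -/
abbrev inU (U V : X.Opens) : X.Opens := U.ι ''ᵁ (U.ι ⁻¹ᵁ V)

/-- A section of the direct image as a function. -/
def pv (U V : X.Opens) (a : Γ(pushO U, V)) : Γ(X, inU U V) :=
  ((Coh.structureModule X).restrictAppIso U.ι (U.ι ⁻¹ᵁ V)).hom a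

lemma pv_bijective (U V : X.Opens) : Function.Bijective (pv U V) :=
  ConcreteCategory.bijective_of_isIso _

lemma pv_add (U V : X.Opens) (a b : Γ(pushO U, V)) : pv U V (a + b) = pv U V a + pv U V b :=
  map_add ((Coh.structureModule X).restrictAppIso U.ι (U.ι ⁻¹ᵁ V)).hom.hom a b

lemma pv_zero (U V : X.Opens) : pv U V 0 = 0 :=
  map_zero ((Coh.structureModule X).restrictAppIso U.ι (U.ι ⁻¹ᵁ V)).hom.hom

lemma pv_smul (U V : X.Opens) (r : Γ(X, V)) (a : Γ(pushO U, V)) :
    pv U V (r • a) = resO X (U.ι.image_preimage_le V) r * pv U V a := by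
  refine (Scheme.Modules.smul_restrictAppIso_hom_apply U.ι (Coh.structureModule X) (U.ι ⁻¹ᵁ V) (U.ι.app V r) a).trans ?_
  show (U.ι.appIso _).inv (U.ι.app V r) * _ = _
  congr 1
  exact ConcreteCategory.congr_hom (U.ι.app_appIso_inv V) r

lemma pv_res (U : X.Opens) {V V' : X.Opens} (h : V' ≤ V) (a : Γ(pushO U, V)) :
    pv U V' (res (pushO U) h a) = resO X (U.ι.image_mono (fun _ hx => h hx)) (pv U V a) := rfl

lemma pv_unit (U V : X.Opens) (r : Γ(X, V)) :
    pv U V (((Scheme.Modules.restrictAdjunction U.ι).unit.app (Coh.structureModule X)).app V (toUnit r)) =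
      resO X (U.ι.image_preimage_le V) r := rfl

lemma mem_inU {U V : X.Opens} {x : X} (hU : x ∈ U) (hV : x ∈ V) : x ∈ inU U V :=
  ⟨⟨x, hU⟩, hV, rfl⟩

lemma mem_of_mem_inU {U V : X.Opens} {x : X} (hx : x ∈ inU U V) : x ∈ U := by
  obtain ⟨y, -, rfl⟩ := hx
  exact y.2

lemma subsingleton_of_isEmpty (M : X.Modules) {V : X.Opens} (hV : ∀ x : X, x ∉ V) (a b : Γ(M, V)) : a = b :=
  TopCat.Presheaf.section_ext (⟨M.presheaf, M.isSheaf⟩ : TopCat.Sheaf Ab X) V a b fun y hy => absurd hy (hV y)

variable [IsIntegral X]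

/-- The rational function of a section of the direct image. -/
def pvη {U V : X.Opens} (hU : genericPoint X ∈ U) (hV : genericPoint X ∈ V) (a : Γ(pushO U, V)) :
    X.presheaf.stalk (genericPoint X) :=
  X.presheaf.germ (inU U V) (genericPoint X) (mem_inU hU hV) (pv U V a)

variable {U : X.Opens} (hη : genericPoint X ∈ U)

lemma pvη_injective {V : X.Opens} (hV : genericPoint X ∈ V) : Function.Injective (pvη hη hV) := fun a b h =>
  (pv_bijective U V).1 (germ_injective_of_isIntegral X (genericPoint X) (mem_inU hη hV) h)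

lemma pvη_add {V : X.Opens} (hV : genericPoint X ∈ V) (a b : Γ(pushO U, V)) :
    pvη hη hV (a + b) = pvη hη hV a + pvη hη hV b := by
  rw [pvη, pv_add, map_add]; rfl

lemma pvη_smul {V : X.Opens} (hV : genericPoint X ∈ V) (r : Γ(X, V)) (a : Γ(pushO U, V)) :
    pvη hη hV (r • a) = X.presheaf.germ V (genericPoint X) hV r * pvη hη hV a := by
  rw [pvη, pv_smul, map_mul, germ_resO]
  rfl

lemma pvη_res {V V' : X.Opens} (h : V' ≤ V) (hV' : genericPoint X ∈ V') (a : Γ(pushO U, V)) :
    pvη hη hV' (res (pushO U) h a) = pvη hη (h hV') a := by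
  rw [pvη, pv_res, germ_resO]
  rfl

variable [IsLocallyNoetherian X] {F : X.Modules} {s : Coh.structureModule X ⟶ F}
  (hX : Pi1.IsNormalScheme X) (hF : RefHull.IsRef1 F) (hU : (U : Set X) = RefPow.isoLocus s)

include hX hF hU hη in
lemma exists_leg (n : ℕ) (V : X.Opens) (t : Γ(RefPow.refPow F n, V)) :
    ∃! a : Γ(pushO U, V), ∀ h : genericPoint X ∈ V,
      pvη hη h a • powη s n = germM (RefPow.refPow F n) V (genericPoint X) h t := by
  obtain ⟨hR, hne, hord⟩ := refPow_spec hX hF (powη_one_ne_zero hU hη) n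
  by_cases hV : genericPoint X ∈ V
  swap
  · refine ⟨0, fun h => absurd h hV, fun a _ => ?_⟩
    exact (pv_bijective U V).1 (subsingleton_of_isEmpty (Coh.structureModule X)
      (fun x hx => hV (genericPoint_mem (U.ι.image_preimage_le V hx))) _ _)
  have hb := smul_bijective_of_ne_zero (framed_of_isRef1 hX hR (Or.inl rfl)) hne
  obtain ⟨c, hc⟩ := hb.2 (germM (RefPow.refPow F n) V (genericPoint X) hV t)
  obtain ⟨a, ha⟩ := exists_function hX (mem_inU hη hV) (c : X.functionField) (by
    by_cases h0 : (c : X.functionField) = 0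
    · exact Or.inl h0
    refine Or.inr fun x hx hcx => ?_
    have hf := framed_of_isRef1 hX hR (Or.inr hcx)
    have hnz : germM (RefPow.refPow F n) V (genericPoint X) hV t ≠ 0 := fun h => h0
      (hb.1 ((hc.trans h).trans (zero_smul (X.presheaf.stalk (genericPoint X)) (powη s n)).symm))
    have hreg : 0 ≤ sord (RefPow.refPow F n) x (germM (RefPow.refPow F n) V (genericPoint X) hV t) :=
      (mem_range_toη_iff hX hf hcx hnz).1 ⟨_, toη_germ _ x (U.ι.image_preimage_le V hx) t⟩
    rw [← hc, show sord _ x (c • powη s n) = _ from sord_smul hf hcx hne (c : X.functionField) h0,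
      hord x hcx, sord_eq_zero_of_mem hU hcx (mem_of_mem_inU hx), mul_zero, add_zero] at hreg
    exact hreg)
  obtain ⟨z, hz⟩ := (pv_bijective U V).2 a
  refine ⟨z, fun h => ?_, fun z' hz' => pvη_injective hη hV (hb.1 ?_)⟩
  · rw [pvη, hz, ha]
    exact hc
  · refine (hz' hV).trans ?_
    rw [pvη, hz, ha]
    exact hc.symm

/-- A power of the module maps to the direct image by dividing by the power of the section. -/
def leg (n : ℕ) : RefPow.refPow F n ⟶ pushO U :=
  have key := exists_leg hη hX hF hU n
  HomOn.toHom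
    { app := fun V _ =>
        { toFun := fun t => Classical.choose (key V t).exists
          map_add' := fun a b => ((key V _).unique (Classical.choose_spec (key V _).exists) fun h => by
            rw [pvη_add, add_smul, Classical.choose_spec (key V a).exists h,
              Classical.choose_spec (key V b).exists h, germM_add])
          map_smul' := fun r a => ((key V _).unique (Classical.choose_spec (key V _).exists) fun h => by
            rw [RingHom.id_apply, pvη_smul, mul_smul, Classical.choose_spec (key V a).exists h, germM_smul]) }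
      app_res := fun {W W'} _ h t => (key W' _).unique (Classical.choose_spec (key W' _).exists) fun h' => by
        rw [pvη_res]
        exact (Classical.choose_spec (key W t).exists (h h')).trans (germM_res (M := RefPow.refPow F n) h h' t).symm }

lemma leg_spec (n : ℕ) {V : X.Opens} (h : genericPoint X ∈ V) (t : Γ(RefPow.refPow F n, V)) :
    pvη hη h ((leg hη hX hF hU n).app V t) • powη s n = germM (RefPow.refPow F n) V (genericPoint X) h t :=
  Classical.choose_spec (exists_leg hη hX hF hU n V t).exists h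

lemma leg_eq (n : ℕ) (ψ : RefPow.refPow F n ⟶ pushO U)
    (h : ∀ (V : X.Opens) (hV : genericPoint X ∈ V) (t : Γ(RefPow.refPow F n, V)),
      pvη hη hV (ψ.app V t) • powη s n = germM (RefPow.refPow F n) V (genericPoint X) hV t) :
    ψ = leg hη hX hF hU n := by
  refine Scheme.Modules.hom_ext _ _ fun V => ?_
  ext t
  exact (exists_leg hη hX hF hU n V t).unique (fun hV => h V hV t) (fun hV => leg_spec hη hX hF hU n hV t)

lemma mulBy_leg (n : ℕ) : RefPow.mulBy s n ≫ leg hη hX hF hU (n + 1) = leg hη hX hF hU n := by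
  refine leg_eq hη hX hF hU n _ fun V hV t => ?_
  have e := leg_spec hη hX hF hU (n + 1) hV ((RefPow.mulBy s n).app V t)
  rw [show (RefPow.mulBy s n ≫ leg hη hX hF hU (n + 1)).app V t =
    (leg hη hX hF hU (n + 1)).app V ((RefPow.mulBy s n).app V t) from rfl]
  generalize pvη hη hV ((leg hη hX hF hU (n + 1)).app V ((RefPow.mulBy s n).app V t)) = c at e
  obtain ⟨hR, hne, -⟩ := refPow_spec hX hF (powη_one_ne_zero hU hη) n
  obtain ⟨d, hd⟩ := (smul_bijective_of_ne_zero (framed_of_isRef1 hX hR (Or.inl rfl)) hne).2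
    (germM (RefPow.refPow F n) V (genericPoint X) hV t)
  obtain ⟨hR', hne', -⟩ := refPow_spec hX hF (powη_one_ne_zero hU hη) (n + 1)
  have hcd : c = d := (smul_bijective_of_ne_zero (framed_of_isRef1 hX hR' (Or.inl rfl)) hne').1
    (e.trans ((RefHull.stalkMapₗ_germ (RefPow.mulBy s n) _ hV t).symm.trans
      ((congrArg (RefHull.stalkMapₗ (RefPow.mulBy s n) (genericPoint X)) hd.symm).trans
        ((map_smul _ _ _).trans (by rw [← powη_succ])))))
  rw [hcd]
  exact hd

lemma leg_zero :
    leg hη hX hF hU 0 = (Scheme.Modules.restrictAdjunction U.ι).unit.app (Coh.structureModule X) := by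
  refine (leg_eq hη hX hF hU 0 ((Scheme.Modules.restrictAdjunction U.ι).unit.app (Coh.structureModule X))
    fun V hV t => ?_).symm
  refine Eq.trans (congrArg (fun w : X.presheaf.stalk (genericPoint X) =>
      w • germM (Coh.structureModule X) ⊤ (genericPoint X) trivial (toUnit (1 : Γ(X, ⊤)))) ?_)
    (germM_toUnit hV (show Γ(X, V) from t)).symm
  exact germ_resO (U.ι.image_preimage_le V) (mem_inU hη hV) (show Γ(X, V) from t)

lemma leg_injective (n : ℕ) (V : X.Opens) : Function.Injective ((leg hη hX hF hU n).app V) := by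
  refine (injective_iff_map_eq_zero _).2 fun t ht => ?_
  obtain ⟨hR, -, -⟩ := refPow_spec hX hF (powη_one_ne_zero hU hη) n
  by_cases hV : genericPoint X ∈ V
  · refine eq_zero_of_germ_generic _ hR.1.1 (torsionFree_of_reflexive _ (stalks_reflexive hR)) hV t ?_
    have e := leg_spec hη hX hF hU n hV t
    rw [ht, pvη, pv_zero, map_zero, zero_smul] at e
    exact e.symm
  · exact subsingleton_of_isEmpty _ (fun x hx => hV (genericPoint_mem hx)) _ _

lemma leg_surjective {W : X.Opens} (hW : IsAffineOpen W) (z : Γ(pushO U, W)) :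
    ∃ (n : ℕ) (t : Γ(RefPow.refPow F n, W)), (leg hη hX hF hU n).app W t = z := by
  by_cases hV : genericPoint X ∈ W
  swap
  · exact ⟨0, 0, (pv_bijective U W).1 (subsingleton_of_isEmpty (Coh.structureModule X)
      (fun x hx => hV (genericPoint_mem (U.ι.image_preimage_le W hx))) _ _)⟩
  let φ : X.functionField := pvη hη hV z
  by_cases hφ : φ = 0
  · refine ⟨0, 0, ?_⟩
    rw [map_zero]
    refine (pvη_injective hη hV ?_).symm
    exact hφ.trans (by rw [pvη, pv_zero, map_zero])
  have hfin := height_one_finite_notMem ⟨W, hW⟩ U hη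
  let n : ℕ := ∑ x ∈ hfin.toFinset, (Scheme.ord φ x).natAbs
  have hs1 := powη_one_ne_zero hU hη
  obtain ⟨hR, hne, hord⟩ := refPow_spec hX hF hs1 n
  have hv : (φ : X.presheaf.stalk (genericPoint X)) • powη s n ≠ 0 := fun h => hφ
    ((smul_bijective_of_ne_zero (framed_of_isRef1 hX hR (Or.inl rfl)) hne).1
      (h.trans (zero_smul (X.presheaf.stalk (genericPoint X)) (powη s n)).symm))
  obtain ⟨t, ht⟩ := exists_section hX (RefPow.refPow F n) hR.1 (stalks_reflexive hR) W hV
    ((φ : X.presheaf.stalk (genericPoint X)) • powη s n) fun x hx hc => by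
      have hf := framed_of_isRef1 hX hR (Or.inr hc)
      rw [mem_range_toη_iff hX hf hc hv,
        show sord _ x ((φ : X.presheaf.stalk (genericPoint X)) • powη s n) = _ from sord_smul hf hc hne φ hφ,
        hord x hc]
      by_cases hxU : x ∈ U
      · rw [sord_eq_zero_of_mem hU hc hxU, mul_zero, add_zero, ← mem_range_iff hX hc hφ]
        refine ⟨X.presheaf.germ (inU U W) x (mem_inU hxU hx) (pv U W z), ?_⟩
        exact algebraMap_germ (mem_inU hxU hx) (pv U W z)
      · have hle : (Scheme.ord φ x).natAbs ≤ n :=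
          Finset.single_le_sum (f := fun y => (Scheme.ord φ y).natAbs) (fun _ _ => Nat.zero_le _)
            (hfin.mem_toFinset.2 ⟨hx, hc, hxU⟩)
        have h1 := one_le_sord hU hX hF hη hc hxU
        have h2 : (n : ℤ) ≤ n * sord F x (powη s 1) := le_mul_of_one_le_right (Int.natCast_nonneg n) h1
        omega
  exact ⟨n, t, (exists_leg hη hX hF hU n W t).unique (fun h => leg_spec hη hX hF hU n h t) fun _ => ht.symm⟩

omit [IsIntegral X] [IsLocallyNoetherian X] in
/-- A cocone of a sequence of modules is a colimit as soon as it is one on sections over affine opens. -/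
theorem isColimit_of_sections {D : ℕ ⥤ X.Modules} (c : Cocone D)
    (hsurj : ∀ W : X.Opens, IsAffineOpen W → ∀ σ : Γ(c.pt, W),
      ∃ (j : ℕ) (t : Γ(D.obj j, W)), (c.ι.app j).app W t = σ)
    (hinj : ∀ W : X.Opens, IsAffineOpen W → ∀ (j : ℕ) (t : Γ(D.obj j, W)),
      (c.ι.app j).app W t = 0 → ∃ (k : ℕ) (h : j ⟶ k), (D.map h).app W t = 0) :
    Nonempty (IsColimit c) := by
  let e : AsSmall.{u} ℕ ≌ ℕ := AsSmall.equiv.symm
  haveI : IsFiltered (AsSmall.{u} ℕ) := IsFiltered.of_equivalence AsSmall.equiv
  obtain ⟨h⟩ := QCFilt72.nonempty_isColimit_of_sections (c.whisker e.functor)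
    (fun W hW σ => by
      obtain ⟨j, t, ht⟩ := hsurj W hW σ
      exact ⟨ULift.up j, t, ht⟩)
    (fun W hW j t ht => by
      obtain ⟨k, f, hf⟩ := hinj W hW _ t ht
      exact ⟨ULift.up k, ⟨f⟩, hf⟩)
  exact ⟨IsColimit.ofWhiskerEquivalence e h⟩

include hX hF hU in
/-- The direct image from the isomorphism locus is the colimit of the powers. -/
theorem exists_isColimit_refPow :
    ∃ ι : RefPow.diagram F s ⟶ (Functor.const ℕ).obj (pushO U),
      ι.app 0 = (Scheme.Modules.restrictAdjunction U.ι).unit.app (Coh.structureModule X) ∧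
        Nonempty (IsColimit (Cocone.mk _ ι)) := by
  by_cases hη : genericPoint X ∈ U
  · refine ⟨NatTrans.ofSequence (fun n => leg hη hX hF hU n) fun n => ?_, leg_zero hη hX hF hU, ?_⟩
    · rw [RefPow.diagram_map, Functor.const_obj_map]
      exact (mulBy_leg hη hX hF hU n).trans (Category.comp_id _).symm
    · exact isColimit_of_sections _ (fun W hW σ => leg_surjective hη hX hF hU hW σ)
        fun W _ j t ht => ⟨j, 𝟙 j, by
          have ht0 : t = 0 := leg_injective hη hX hF hU j W (ht.trans (map_zero _).symm)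
          rw [ht0]
          exact map_zero _⟩
  have hempty : ∀ V : X.Opens, ∀ x : X, x ∉ inU U V := fun V x hx => hη (genericPoint_mem (mem_of_mem_inU hx))
  have hz : ∀ (V : X.Opens) (a b : Γ(pushO U, V)), a = b := fun V a b =>
    (pv_bijective U V).1 (subsingleton_of_isEmpty (Coh.structureModule X) (hempty V) _ _)
  have hsub : ∀ {M : X.Modules} (a b : M ⟶ pushO U), a = b := fun a b =>
    Scheme.Modules.hom_ext a b fun V => by ext t; exact hz V _ _
  have hs0 : s = 0 := by
    refine hom_ext F hF.1 (stalks_reflexive hF) (Coh.structureModule X) _ _ ?_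
    have hF' := stalks_reflexive hF
    let o := germM (Coh.structureModule X) ⊤ (genericPoint X) trivial (toUnit (1 : Γ(X, ⊤)))
    have ho : RefHull.stalkMapₗ s (genericPoint X) o = 0 := by
      by_contra h
      refine hη ((mem_locus_iff hU _).2 ?_)
      have hb := smul_bijective_of_ne_zero (framed_of_isRef1 hX hF (Or.inl rfl)) h
      have hcomp : (fun c : X.presheaf.stalk (genericPoint X) => RefHull.stalkMapₗ s (genericPoint X) (c • o)) =
          fun c => c • RefHull.stalkMapₗ s (genericPoint X) o := funext fun c => map_smul _ _ _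
      exact (Function.Bijective.of_comp_iff _
        (isGen_germM isFrame_unit (trivial : genericPoint X ∈ (⊤ : X.Opens)))).1
          (show Function.Bijective (fun c : X.presheaf.stalk (genericPoint X) =>
            RefHull.stalkMapₗ s (genericPoint X) (c • o)) by rw [hcomp]; exact hb)
    refine LinearMap.ext fun v => ?_
    obtain ⟨c, rfl⟩ := (isGen_germM isFrame_unit (trivial : genericPoint X ∈ (⊤ : X.Opens))).2 v
    rw [map_smul, map_smul, ho, smul_zero]
    obtain ⟨W, hW, m, hm⟩ := germM_exist o
    rw [show RefHull.stalkMapₗ (0 : Coh.structureModule X ⟶ F) (genericPoint X) o = 0 from by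
      rw [← hm]
      exact (RefHull.stalkMapₗ_germ _ _ hW m).trans (map_zero _), smul_zero]
  have hmul : ∀ (n : ℕ) (V : X.Opens) (t : Γ(RefPow.refPow F n, V)), (RefPow.mulBy s n).app V t = 0 := by
    subst hs0
    intro n V t
    cases n with
    | zero => rfl
    | succ n =>
      refine (RefPow.mulBy_succ_app _ n V t).trans ?_
      rw [show SecTwist.tmul (RefPow.refPow F (n + 1)) F V t (SecTwist.val (0 : Coh.structureModule X ⟶ F) V) =
        Amp73.tm (RefPow.refPow F (n + 1)) F t (0 : Γ(F, V)) from rfl]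
      rw [show Amp73.tm (RefPow.refPow F (n + 1)) F t (0 : Γ(F, V)) = 0 from by
        rw [← zero_smul Γ(X, V) (0 : Γ(F, V)), Amp73.tm_smul_right, zero_smul]]
      exact map_zero _
  refine ⟨NatTrans.ofSequence (fun n => 0) fun n => hsub _ _, hsub _ _, ?_⟩
  refine isColimit_of_sections _ (fun W hW σ => ⟨0, 0, hz W _ _⟩) fun W _ j t _ =>
    ⟨j + 1, homOfLE (Nat.le_succ j), ?_⟩
  rw [RefPow.diagram_map]
  exact hmul j W t

end Groth.Agent.Div89.Ref1
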