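import Groth.Agent.Div89.Ref1.Ord
import Groth.Agent.Div89.PushReflexive
import Groth.Agent.QC70.Closure
import Groth.Agent.QC70.Hom
import Groth.Agent.Div89.WeilOrd
import Groth.Agent.Props58.LocFree.Criteria

/-! Sections and morphisms into reflexive modules are determined in codimension one. -/

set_option autoImplicit false
set_option linter.style.haveILetI false
set_option backward.isDefEq.respectTransparency.types false

noncomputable section

universe u

open CategoryTheory AlgebraicGeometry TopologicalSpace IsLocalRing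
open Groth.Agent.QC70 Groth.Agent.Props58.LocFree

namespace Groth.Agent.Div89.Ref1

variable {X : Scheme.{u}} [IsIntegral X]

/-- Torsion free stalks of a module with reflexive stalks. -/
lemma torsionFree_of_reflexive (F : X.Modules)
    (hr : ∀ x : X, Module.IsReflexive (X.presheaf.stalk x) (F.presheaf.stalk x)) (x : X) :
    Module.IsTorsionFree (X.presheaf.stalk x) (F.presheaf.stalk x) := by
  haveI := hr x
  infer_instance

lemma toη_injective (F : X.Modules) (hF : Coh.IsQCoh F)
    (htf : ∀ x : X, Module.IsTorsionFree (X.presheaf.stalk x) (F.presheaf.stalk x)) (x : X) :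
    Function.Injective (toη F x) := by
  refine (injective_iff_map_eq_zero _).2 fun z hz => ?_
  obtain ⟨W, hxW, s, rfl⟩ := germM_exist z
  rw [toη_germ] at hz
  rw [eq_zero_of_germ_generic F hF htf _ s hz, germM_zero]

variable [IsLocallyNoetherian X]

omit [IsLocallyNoetherian X] in
lemma codim_cases (y : X) :
    y = genericPoint X ∨ Order.coheight y = 1 ∨ (2 : WithBot ℕ∞) ≤ ringKrullDim (X.presheaf.stalk y) := by
  obtain ⟨U, hy⟩ := exists_affine_mem y
  haveI : Nonempty U.1 := ⟨⟨y, hy⟩⟩
  have hη : genericPoint X ∈ U.1 := genericPoint_mem hy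
  rw [ringKrullDim_stalk_eq_height U y hy]
  have hc := height_primeAt_eq_coheight U y hy
  generalize hh : (primeAt U y hy).height = h at hc
  induction h using ENat.recTopCoe with
  | top => exact Or.inr (Or.inr (WithBot.coe_le_coe.2 (OrderTop.le_top (2 : ℕ∞))))
  | coe n =>
    rcases n with _ | _ | n
    · refine Or.inl (primeAt_inj U hy hη ?_)
      haveI := (primeAt_isPrime U y hy)
      have h0 : primeAt U y hy = ⊥ := le_bot_iff.1 ((Ideal.height_eq_zero_iff.1 hh).2 ⟨Ideal.isPrime_bot, le_rfl⟩ bot_le)
      exact le_antisymm (h0 ▸ bot_le) ((specializes_iff_primeAt_le U hy hη).1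
        ((genericPoint_spec X).specializes trivial))
    · exact Or.inr (Or.inl hc.symm)
    · exact Or.inr (Or.inr (WithBot.coe_le_coe.2 (Nat.cast_le.2 (by omega : 2 ≤ n + 1 + 1))))

variable (hX : Pi1.IsNormalScheme X) (F : X.Modules) (hF : Coh.IsCoh F)
  (hr : ∀ x : X, Module.IsReflexive (X.presheaf.stalk x) (F.presheaf.stalk x))

include hX hF hr

lemma exists_section_affine (U : X.affineOpens) (hη : genericPoint X ∈ U.1)
    (v : F.presheaf.stalk (genericPoint X))
    (hv : ∀ x ∈ U.1, Order.coheight x = 1 → v ∈ Set.range (toη F x)) :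
    ∃ s : Γ(F, U.1), germM F U.1 (genericPoint X) hη s = v := by
  haveI : F.IsQuasicoherent := hF.1
  haveI : F.IsFiniteType := hF.2
  haveI := isNoetherianRing_sections U
  haveI : Nonempty U.1 := ⟨⟨_, hη⟩⟩
  haveI := finite_sections_of_isFiniteType F U.2
  letI := QC70.stalkModule F hη
  let g : Γ(F, U.1) →ₗ[Γ(X, U.1)] F.presheaf.stalk (genericPoint X) := germLinear F hη
  let N : Submodule Γ(X, U.1) (F.presheaf.stalk (genericPoint X)) :=
    LinearMap.range g ⊔ Submodule.span Γ(X, U.1) {v}
  let φ : Γ(F, U.1) →ₗ[Γ(X, U.1)] N := g.codRestrict N fun c => Submodule.mem_sup_left ⟨c, rfl⟩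
  have hinj : Function.Injective φ := fun a b h => by
    rw [← sub_eq_zero]
    refine eq_zero_of_germ_generic F hF.1 (torsionFree_of_reflexive F hr) hη _ ?_
    have h1 : g a = g b := congrArg Subtype.val h
    show g (a - b) = 0
    rw [map_sub, h1, sub_self]
  have hb : Function.Bijective φ := by
    refine CAlg1.bijective_of_depth_two φ fun p hp => ?_
    obtain ⟨y, hy, rfl⟩ := exists_point U p
    by_cases hvy : v ∈ Set.range (toη F y)
    · refine Or.inl ⟨LocalizedModule.map_injective _ _ hinj, fun z => ?_⟩
      obtain ⟨w, hw⟩ := hvy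
      letI := stalkModule F U.1 y hy
      haveI := isLocalizedModule_germLin F hF.1 U y hy
      obtain ⟨⟨m, t⟩, hmt⟩ := IsLocalizedModule.surj (primeAt U y hy).primeCompl (germLin F U.1 y hy) w
      have hmt' : X.presheaf.germ U.1 y hy t.1 • w = germM F U.1 y hy m := hmt
      have htv : t.1 • v = g m := by
        have h1 := congrArg (toη F y) hmt'
        rw [toη_smul, toη_germ, hw] at h1
        refine Eq.trans ?_ h1
        show X.presheaf.germ U.1 (genericPoint X) hη t.1 • v = _
        exact congrArg (fun r : X.presheaf.stalk (genericPoint X) => r • v)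
          (TopCat.Presheaf.germ_stalkSpecializes_apply X.presheaf hy
            ((genericPoint_spec X).specializes trivial) t.1).symm
      induction z using LocalizedModule.induction_on with
      | h n r =>
        obtain ⟨_, ⟨c, rfl⟩, q, hq, hn⟩ := Submodule.mem_sup.1 n.2
        obtain ⟨d, rfl⟩ := Submodule.mem_span_singleton.1 hq
        refine ⟨LocalizedModule.mk (t.1 • c + d • m) (t * r), ?_⟩
        rw [LocalizedModule.map_mk, LocalizedModule.mk_eq]
        refine ⟨1, ?_⟩
        simp only [one_smul, Submonoid.smul_def, Submonoid.coe_mul]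
        refine Subtype.ext ?_
        show r.1 • g (t.1 • c + d • m) = (t.1 * r.1) • n.1
        rw [← hn, map_add, map_smul, map_smul, ← htv, smul_comm d t.1 v, ← smul_add, smul_smul, mul_comm]
    · rcases codim_cases y with h | h | h
      · subst h
        refine absurd ⟨v, ?_⟩ hvy
        obtain ⟨W, hW, s, rfl⟩ := germM_exist v
        exact toη_germ F _ hW s
      · exact absurd (hv y hy h) hvy
      · haveI := (hX y).1
        haveI := (hX y).2
        haveI := finite_stalk_of_isFiniteType (M := F) y
        haveI := hr y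
        refine Or.inr ⟨(natCast_le_depth_of_isReflexive (k := 2) le_rfl
          (CAlg1.two_le_depth_of_isIntegrallyClosed (X.presheaf.stalk y) h)).trans
          (depth_localized_eq_stalk F hF U y hy).ge, fun hass => ne_genericPoint_of_two_le_dim h ?_⟩
        obtain ⟨-, n, hn⟩ := isAssociatedPrime_iff.mp hass
        refine primeAt_inj U hy hη (le_antisymm (fun a ha => ?_)
          ((specializes_iff_primeAt_le U hy hη).1 ((genericPoint_spec X).specializes trivial)))
        by_contra ha0
        have ha1 : X.presheaf.germ U.1 (genericPoint X) hη a ≠ 0 := fun h0 => ha0 (by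
          rw [(injective_iff_map_eq_zero _).1 (germ_injective_of_isIntegral X _ hη) a h0]
          exact zero_mem _)
        rw [hn, Submodule.mem_colon_singleton, Submodule.mem_bot] at ha
        have h2 : X.presheaf.germ U.1 (genericPoint X) hη a • n.1 = 0 := congrArg Subtype.val ha
        have hn0 : n = 0 := Subtype.ext ((isUnit_iff_ne_zero (G₀ := X.functionField)).2 ha1 |>.smul_eq_zero.1 h2)
        refine (primeAt_isPrime U y hy).ne_top (eq_top_iff.2 fun r _ => ?_)
        rw [hn, Submodule.mem_colon_singleton, hn0, smul_zero]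
        exact zero_mem _
  obtain ⟨s, hs⟩ := hb.2 ⟨v, Submodule.mem_sup_right (Submodule.mem_span_singleton_self v)⟩
  exact ⟨s, congrArg Subtype.val hs⟩

/-- A rational section regular in codimension one is regular. -/
theorem exists_section (V : X.Opens) (hη : genericPoint X ∈ V)
    (v : F.presheaf.stalk (genericPoint X))
    (hv : ∀ x ∈ V, Order.coheight x = 1 → v ∈ Set.range (toη F x)) :
    ∃ s : Γ(F, V), germM F V (genericPoint X) hη s = v := by
  choose W hxW hWV using fun y : V => exists_affine_le y.2
  choose s hs using fun y : V => exists_section_affine hX F hF hr (W y) (genericPoint_mem (hxW y)) v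
    fun x hx hc => hv x (hWV y hx) hc
  obtain ⟨t, ht⟩ := exists_glue F (fun y : V => (W y).1) hWV
    (fun y hy => Opens.mem_iSup.2 ⟨⟨y, hy⟩, hxW _⟩) s fun a b => by
      have hab : genericPoint X ∈ (W a).1 ⊓ (W b).1 := ⟨genericPoint_mem (hxW a), genericPoint_mem (hxW b)⟩
      rw [← sub_eq_zero]
      refine eq_zero_of_germ_generic F hF.1 (torsionFree_of_reflexive F hr) hab _ ?_
      refine (map_sub (F.presheaf.germ _ _ hab).hom _ _).trans ?_
      show germM F _ _ hab (res F inf_le_left (s a)) - germM F _ _ hab (res F inf_le_right (s b)) = 0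
      rw [germM_res, germM_res, hs, hs, sub_self]
  refine ⟨t, ?_⟩
  let y : V := ⟨_, hη⟩
  rw [← germM_res (hWV y) (hxW y) t, ht]
  exact hs y

/-- A generic linear map regular in codimension one extends to a morphism. -/
theorem exists_hom (G : X.Modules)
    (T : G.presheaf.stalk (genericPoint X) →ₗ[X.presheaf.stalk (genericPoint X)]
      F.presheaf.stalk (genericPoint X))
    (hT : ∀ x : X, Order.coheight x = 1 → Set.MapsTo T (Set.range (toη G x)) (Set.range (toη F x))) :
    ∃ ψ : G ⟶ F, RefHull.stalkMapₗ ψ (genericPoint X) = T := by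
  have key : ∀ (V : X.Opens) (s : Γ(G, V)), ∃! t : Γ(F, V), ∀ h : genericPoint X ∈ V,
      germM F V (genericPoint X) h t = T (germM G V (genericPoint X) h s) := by
    intro V s
    by_cases hV : genericPoint X ∈ V
    · obtain ⟨t, ht⟩ := exists_section hX F hF hr V hV (T (germM G V _ hV s)) fun x hx hc =>
        hT x hc ⟨germM G V x hx s, toη_germ G x hx s⟩
      refine ⟨t, fun _ => ht, fun t' ht' => sub_eq_zero.1
        (eq_zero_of_germ_generic F hF.1 (torsionFree_of_reflexive F hr) hV _ ?_)⟩
      refine (map_sub (F.presheaf.germ _ _ hV).hom _ _).trans ?_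
      show germM F _ _ hV t' - germM F _ _ hV t = 0
      rw [ht' hV, ht, sub_self]
    · refine ⟨0, fun h => absurd h hV, fun t' _ => ?_⟩
      exact TopCat.Presheaf.section_ext (⟨F.presheaf, F.isSheaf⟩ : TopCat.Sheaf Ab X) V _ _
        fun y hy => absurd (genericPoint_mem hy) hV
  choose t ht hu using key
  let φ : HomOn G F ⊤ :=
    { app := fun V _ =>
        { toFun := t V
          map_add' := fun a b => (hu V _ _ fun h => by
            rw [germM_add, germM_add, map_add, ht V a h, ht V b h]).symm
          map_smul' := fun r a => (hu V _ _ fun h => by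
            rw [RingHom.id_apply, germM_smul, germM_smul, map_smul, ht V a h]).symm }
      app_res := fun {W W'} _ h s => (hu W' _ _ fun h' => by
        rw [germM_res, LinearMap.coe_mk, AddHom.coe_mk, ht W s (h h'), germM_res]).symm }
  refine ⟨φ.toHom, LinearMap.ext fun e => ?_⟩
  obtain ⟨W, hW, s, rfl⟩ := germM_exist e
  exact (RefHull.stalkMapₗ_germ φ.toHom _ hW s).trans (ht W s hW)

omit [IsLocallyNoetherian X] hX in
/-- Morphisms into a torsion free module agreeing at the generic point agree. -/
theorem hom_ext (G : X.Modules) (ψ ψ' : G ⟶ F)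
    (h : RefHull.stalkMapₗ ψ (genericPoint X) = RefHull.stalkMapₗ ψ' (genericPoint X)) : ψ = ψ' := by
  refine Scheme.Modules.hom_ext ψ ψ' fun V => ?_
  ext s
  by_cases hV : genericPoint X ∈ V
  · rw [← sub_eq_zero]
    refine eq_zero_of_germ_generic F hF.1 (torsionFree_of_reflexive F hr) hV _ ?_
    refine (map_sub (F.presheaf.germ _ _ hV).hom _ _).trans ?_
    show germM F _ _ hV (ψ.app V s) - germM F _ _ hV (ψ'.app V s) = 0
    rw [sub_eq_zero]
    have := LinearMap.congr_fun h (germM G V _ hV s)
    exact ((RefHull.stalkMapₗ_germ ψ _ hV s).symm.trans this).trans (RefHull.stalkMapₗ_germ ψ' _ hV s)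
  · exact TopCat.Presheaf.section_ext (⟨F.presheaf, F.isSheaf⟩ : TopCat.Sheaf Ab X) V _ _
      fun y hy => absurd (genericPoint_mem hy) hV

end Groth.Agent.Div89.Ref1
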